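import Mathlib
import Cfsg.Agent.H50.StronglyEmbedded
import Cfsg.Agent.H50.Closure

/-!
Groups in which the centralizer of every involution is elementary abelian, with noncyclic non-normal
Sylow 2-subgroup: the action on the cosets of the Sylow normalizer.
-/

namespace Cfsg.Agent.H50

variable {G : Type*} [Group G] [Finite G]

/-- The running hypothesis: a noncyclic non-normal Sylow 2-subgroup and elementary abelian
centralizers of all involutions. -/
structure InvolutionCA (T : Sylow 2 G) : Prop where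
  not_cyclic : ¬ IsCyclic (T : Subgroup G)
  not_normal : ¬ (T : Subgroup G).Normal
  central : ∀ t : G, orderOf t = 2 → IsMulCommutative (Subgroup.centralizer ({t} : Set G)) ∧
    ∀ c ∈ Subgroup.centralizer ({t} : Set G), c ^ 2 = 1

variable {T : Sylow 2 G}

local notation "N" => Subgroup.normalizer (((T : Subgroup G)) : Set G)

/-- The Sylow subgroup is nontrivial. -/
theorem InvolutionCA.exists_involution (h : InvolutionCA T) :
    ∃ t ∈ (T : Subgroup G), orderOf t = 2 := by
  refine H28.exists_involution_of_isPGroup T.2 fun hb => h.not_cyclic ?_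
  rw [hb]
  infer_instance

/-- The Sylow subgroup is commutative. -/
theorem InvolutionCA.comm (h : InvolutionCA T) {a b : G} (ha : a ∈ T) (hb : b ∈ T) :
    a * b = b * a := by
  haveI : Fact (Nat.Prime 2) := ⟨Nat.prime_two⟩
  haveI : Nontrivial (T : Subgroup G) := by
    obtain ⟨t, ht, ht2⟩ := h.exists_involution
    exact ⟨⟨⟨t, ht⟩, 1, fun e => by rw [show t = 1 from congrArg Subtype.val e, orderOf_one] at ht2; omega⟩⟩
  obtain ⟨z, hz, hz2⟩ : ∃ z : (T : Subgroup G), z ∈ Subgroup.center (T : Subgroup G) ∧ orderOf z = 2 := by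
    haveI := IsPGroup.center_nontrivial T.2
    have hd : 2 ∣ Nat.card (Subgroup.center (T : Subgroup G)) := by
      obtain ⟨k, hk0, hk⟩ :=
        (IsPGroup.nontrivial_iff_card (T.2.to_subgroup (Subgroup.center (T : Subgroup G)))).1 inferInstance
      rw [hk]; exact dvd_pow_self 2 hk0.ne'
    obtain ⟨z, hz⟩ := exists_prime_orderOf_dvd_card' 2 hd
    exact ⟨z, z.2, by rw [Subgroup.orderOf_coe]; exact hz⟩
  have hle : ∀ x ∈ (T : Subgroup G), x ∈ Subgroup.centralizer ({(z : G)} : Set G) := fun x hx =>
    Subgroup.mem_centralizer_singleton_iff.2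
      (congrArg Subtype.val (Subgroup.mem_center_iff.1 hz ⟨x, hx⟩))
  haveI := (h.central (z : G) (by rw [Subgroup.orderOf_coe]; exact hz2)).1
  exact congrArg Subtype.val (IsMulCommutative.is_comm.comm
    (⟨a, hle a ha⟩ : Subgroup.centralizer ({(z : G)} : Set G)) ⟨b, hle b hb⟩)

/-- The elements of the Sylow subgroup square to one. -/
theorem InvolutionCA.sq (h : InvolutionCA T) {a : G} (ha : a ∈ T) : a * a = 1 := by
  obtain ⟨t, ht, ht2⟩ := h.exists_involution
  have := (h.central t ht2).2 a (Subgroup.mem_centralizer_singleton_iff.2 (h.comm ha ht))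
  rwa [pow_two] at this

/-- The nontrivial elements of the Sylow subgroup are involutions. -/
theorem InvolutionCA.orderOf_eq (h : InvolutionCA T) {a : G} (ha : a ∈ T) (ha1 : a ≠ 1) :
    orderOf a = 2 :=
  orderOf_eq_two (h.sq ha) ha1

/-- The centralizer of an involution of the Sylow subgroup is the Sylow subgroup. -/
theorem InvolutionCA.centralizer_eq (h : InvolutionCA T) {t : G} (ht : t ∈ T)
    (ht2 : orderOf t = 2) : Subgroup.centralizer ({t} : Set G) = (T : Subgroup G) :=
  T.3 (fun x => ⟨1, Subtype.ext (by simpa using (h.central t ht2).2 x.1 x.2)⟩)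
    fun _ hx => Subgroup.mem_centralizer_singleton_iff.2 (h.comm hx ht)

/-- An element of two-power order normalizing the Sylow subgroup lies in it. -/
theorem InvolutionCA.mem_of_mem_normalizer {x : G} (hx : x ∈ N) (h2 : orderOf x = 2) : x ∈ T := by
  have hp : IsPGroup 2 (Subgroup.zpowers x) :=
    IsPGroup.of_card (n := 1) (by rw [Nat.card_zpowers, h2, pow_one])
  have hle : Subgroup.zpowers x ⊔ (T : Subgroup G) ≤ T :=
    (T.3 (IsPGroup.to_sup_of_normal_right' hp T.2 (Subgroup.zpowers_le.2 hx)) le_sup_right).le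
  exact hle (Subgroup.mem_sup_left (Subgroup.mem_zpowers x))

/-- The Sylow normalizer is strongly embedded. -/
theorem InvolutionCA.stronglyEmbedded (h : InvolutionCA T) : Cfsg.IsStronglyEmbedded N := by
  have htop : N ≠ ⊤ := fun e => h.not_normal (Subgroup.normalizer_eq_top_iff.1 e)
  obtain ⟨t₀, ht₀, ht₀2⟩ := h.exists_involution
  have heven : Even (Nat.card N) := by
    have h1 := orderOf_dvd_natCard (⟨t₀, Subgroup.le_normalizer ht₀⟩ : ↥N)
    rw [Subgroup.orderOf_mk, ht₀2] at h1
    exact even_iff_two_dvd.2 h1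
  rw [H28.isStronglyEmbedded_iff_mem htop heven]
  intro t ht ht2 g hg
  have hord : orderOf (g⁻¹ * t * g) = 2 := by
    have := orderOf_conj g⁻¹ t
    rw [inv_inv] at this
    rw [this, ht2]
  have h1 := InvolutionCA.mem_of_mem_normalizer ht ht2
  have h2 := InvolutionCA.mem_of_mem_normalizer hg hord
  have e1 := h.centralizer_eq h1 ht2
  have e2 := h.centralizer_eq h2 hord
  rw [← map_conj_eq_iff]
  conv_rhs => rw [← e1]
  conv_lhs => rw [← e2]
  ext x
  rw [mem_map_conj, Subgroup.mem_centralizer_singleton_iff, Subgroup.mem_centralizer_singleton_iff]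
  constructor
  · intro hx
    calc x * t = g * (g⁻¹ * x * g * (g⁻¹ * t * g)) * g⁻¹ := by group
      _ = g * (g⁻¹ * t * g * (g⁻¹ * x * g)) * g⁻¹ := by rw [hx]
      _ = t * x := by group
  · intro hx
    calc g⁻¹ * x * g * (g⁻¹ * t * g) = g⁻¹ * (x * t) * g := by group
      _ = g⁻¹ * (t * x) * g := by rw [hx]
      _ = g⁻¹ * t * g * (g⁻¹ * x * g) := by group

/-- An element commuting with an involution of the Sylow subgroup lies in it. -/
theorem InvolutionCA.mem_of_commute (h : InvolutionCA T) {c t : G} (ht : t ∈ T)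
    (ht2 : orderOf t = 2) (hc : Commute c t) : c ∈ T :=
  (h.centralizer_eq ht ht2).le (Subgroup.mem_centralizer_singleton_iff.2 hc.eq)

/-- The involutions of the Sylow normalizer are the nontrivial elements of the Sylow subgroup. -/
theorem InvolutionCA.card_involutions (h : InvolutionCA T) :
    Nat.card {t : G // orderOf t = 2 ∧ t ∈ N} = Nat.card T - 1 := by
  classical
  haveI : Fintype (T : Subgroup G) := Fintype.ofFinite _
  have e : {t : G // orderOf t = 2 ∧ t ∈ N} ≃ {a : (T : Subgroup G) // a ≠ 1} :=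
    { toFun := fun t => ⟨⟨t.1, InvolutionCA.mem_of_mem_normalizer t.2.2 t.2.1⟩, fun e => by
        have h1 := t.2.1
        rw [show t.1 = 1 from congrArg Subtype.val e, orderOf_one] at h1
        omega⟩
      invFun := fun a => ⟨a.1, h.orderOf_eq a.1.2 (fun e => a.2 (Subtype.ext e)),
        Subgroup.le_normalizer a.1.2⟩
      left_inv := fun _ => rfl
      right_inv := fun _ => rfl }
  rw [Nat.card_congr e, Nat.card_eq_fintype_card, Fintype.card_subtype_compl,
    Fintype.card_subtype_eq]
  congr 1
  exact Fintype.card_eq_nat_card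

/-- The order of the Sylow subgroup is at least four. -/
theorem InvolutionCA.four_le (h : InvolutionCA T) : 4 ≤ Nat.card T := by
  haveI : Fact (Nat.Prime 2) := ⟨Nat.prime_two⟩
  obtain ⟨k, hk⟩ := IsPGroup.iff_card.1 T.2
  rcases k with _ | _ | k
  · exact absurd (by rw [Subgroup.card_eq_one.1 (show Nat.card (T : Subgroup G) = 1 by simpa using hk)]; infer_instance) h.not_cyclic
  · exact absurd (isCyclic_of_prime_card (p := 2) (by simpa using hk)) h.not_cyclic
  · show 4 ≤ Nat.card (T : Subgroup G)
    rw [hk, pow_succ, pow_succ]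
    have : 0 < 2 ^ k := by positivity
    omega

/-- The two-point stabilizer: it has order one less than the Sylow subgroup, is inverted by an
exchanging involution and complements the Sylow subgroup in its normalizer. -/
theorem InvolutionCA.two_point (h : InvolutionCA T) {u : G} (hu : orderOf u = 2) (huH : u ∉ N) :
    (∀ d ∈ N ⊓ (N).map (MulAut.conj u).toMonoidHom, u * d * u⁻¹ = d⁻¹) ∧
      Nat.card ↥(N ⊓ (N).map (MulAut.conj u).toMonoidHom) = Nat.card T - 1 ∧
      Nat.card ↥N = Nat.card T * (Nat.card T - 1) ∧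
      Subgroup.IsComplement' ((N ⊓ (N).map (MulAut.conj u).toMonoidHom).subgroupOf N)
        ((T : Subgroup G).subgroupOf N) := by
  have hSE := h.stronglyEmbedded
  set D : Subgroup G := N ⊓ (N).map (MulAut.conj u).toMonoidHom with hDdef
  have hmap : ∀ x : G, x ∈ (N).map (MulAut.conj u).toMonoidHom ↔ u * x * u ∈ N := fun x => by
    rw [mem_map_conj, inv_eq_self hu]
  have h1D : ∀ x : G, x ∈ D ↔ x ∈ N ∧ u * x * u ∈ N := fun x => by
    rw [hDdef, Subgroup.mem_inf, hmap]
  set x₀ : G ⧸ N := ((1 : G) : G ⧸ N) with hx₀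
  have hxy : x₀ ≠ u • x₀ := fun e => huH (smul_one_coset_eq_iff.1 e.symm)
  -- involutions exchanging the two points give elements of `D`
  let f : {i : G // orderOf i = 2 ∧ i • x₀ = u • x₀} → D := fun i => ⟨u * i.1, (h1D _).2
    ⟨smul_one_coset_eq_iff.1 (by rw [← hx₀, mul_smul, i.2.2, smul_smul_self hu]), by
      rw [show u * (u * i.1) * u = (u * u) * i.1 * u by simp only [mul_assoc], inv_mul_self hu,
        one_mul]
      refine smul_one_coset_eq_iff.1 ?_
      rw [← hx₀, mul_smul, smul_swap i.2.1 i.2.2]⟩⟩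
  have hf : Function.Injective f := fun i j e =>
    Subtype.ext (mul_left_cancel (congrArg Subtype.val e))
  have hlow : Nat.card T - 1 ≤ Nat.card D := by
    rw [← h.card_involutions, ← se_card_swap hSE hxy]
    exact Nat.card_le_card_of_injective f hf
  -- `D` meets the Sylow subgroup trivially
  have hDT : ∀ x ∈ D, x ∈ T → x = 1 := fun x hx hxT => by
    by_contra hne
    exact huH (H28.mem_of_isStronglyEmbedded hSE (Subgroup.le_normalizer hxT) (h.orderOf_eq hxT hne)
      (by rw [inv_eq_self hu]; exact ((h1D x).1 hx).2))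
  -- the normalizer acts on the nontrivial elements of the Sylow subgroup
  obtain ⟨t₀, ht₀, ht₀2⟩ := h.exists_involution
  have hup : Nat.card ↥N ≤ Nat.card T * (Nat.card T - 1) := by
    let C := (Subgroup.centralizer ({t₀} : Set G)).subgroupOf N
    have hC : Nat.card C = Nat.card T := by
      have hle : Subgroup.centralizer ({t₀} : Set G) ≤ N := by
        rw [h.centralizer_eq ht₀ ht₀2]; exact Subgroup.le_normalizer
      rw [Nat.card_congr (Subgroup.subgroupOfEquivOfLe hle).toEquiv, h.centralizer_eq ht₀ ht₀2]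
    have hidx : C.index ≤ Nat.card T - 1 := by
      rw [← h.card_involutions]
      refine Nat.card_le_card_of_injective
        (fun q : (↥N) ⧸ C => (⟨(q.out : G) * t₀ * (q.out : G)⁻¹, by rw [orderOf_conj, ht₀2],
          mul_mem (mul_mem q.out.2 (Subgroup.le_normalizer ht₀)) (inv_mem q.out.2)⟩ :
          {t : G // orderOf t = 2 ∧ t ∈ N})) ?_
      intro q q' e
      have e' : (q.out : G) * t₀ * (q.out : G)⁻¹ = (q'.out : G) * t₀ * (q'.out : G)⁻¹ :=
        congrArg Subtype.val e
      rw [← Quotient.out_eq q, ← Quotient.out_eq q']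
      apply Quotient.sound
      refine (QuotientGroup.leftRel_apply (s := C)).2 ?_
      show (q.out : G)⁻¹ * (q'.out : G) ∈ Subgroup.centralizer ({t₀} : Set G)
      rw [Subgroup.mem_centralizer_singleton_iff]
      calc (q.out : G)⁻¹ * q'.out * t₀
          = (q.out : G)⁻¹ * (q'.out * t₀ * (q'.out : G)⁻¹) * q'.out := by group
        _ = (q.out : G)⁻¹ * (q.out * t₀ * (q.out : G)⁻¹) * q'.out := by rw [e']
        _ = t₀ * ((q.out : G)⁻¹ * q'.out) := by group
    rw [← C.card_mul_index, hC]
    exact Nat.mul_le_mul_left _ hidx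
  have hprod : Nat.card D * Nat.card T ≤ Nat.card ↥N := by
    rw [← Nat.card_prod]
    refine Nat.card_le_card_of_injective (fun p : D × (T : Subgroup G) =>
      (⟨p.1.1 * p.2.1, mul_mem ((h1D _).1 p.1.2).1 (Subgroup.le_normalizer p.2.2)⟩ : ↥N)) ?_
    rintro ⟨d, a⟩ ⟨d', a'⟩ e
    have e' : d.1 * a.1 = d'.1 * a'.1 := congrArg Subtype.val e
    have e2 : d'.1⁻¹ * d.1 = a'.1 * a.1⁻¹ := by
      rw [eq_mul_inv_iff_mul_eq, mul_assoc, e', inv_mul_cancel_left]
    have e3 := hDT _ (mul_mem (inv_mem d'.2) d.2) (e2 ▸ mul_mem a'.2 (inv_mem a.2))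
    have hd : d = d' := Subtype.ext (inv_mul_eq_one.1 e3).symm
    subst hd
    exact Prod.ext rfl (Subtype.ext (mul_left_cancel e'))
  have hpos : 0 < Nat.card T := Nat.card_pos
  have hDcard : Nat.card D = Nat.card T - 1 := by
    refine le_antisymm ?_ hlow
    have h1 := hprod.trans hup
    rw [mul_comm] at h1
    exact Nat.le_of_mul_le_mul_left h1 hpos
  have hNcard : Nat.card ↥N = Nat.card T * (Nat.card T - 1) := by
    refine le_antisymm hup ?_
    rw [← hDcard, mul_comm]
    exact hprod
  refine ⟨?_, hDcard, hNcard, ?_⟩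
  · intro d hd
    have hbij : Function.Bijective f := by
      rw [Nat.bijective_iff_injective_and_card]
      exact ⟨hf, by rw [se_card_swap hSE hxy, h.card_involutions, hDcard]⟩
    obtain ⟨i, hi⟩ := hbij.2 ⟨d, hd⟩
    have e : d = u * i.1 := (congrArg Subtype.val hi).symm
    rw [e, inv_eq_self hu, mul_inv_rev, inv_eq_self hu, inv_eq_self i.2.1, ← mul_assoc u u,
      inv_mul_self hu, one_mul]
  · refine Subgroup.isComplement'_of_card_mul_and_disjoint ?_ ?_
    · rw [Nat.card_congr (Subgroup.subgroupOfEquivOfLe inf_le_left).toEquiv,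
        Nat.card_congr (Subgroup.subgroupOfEquivOfLe Subgroup.le_normalizer).toEquiv, hDcard,
        hNcard, mul_comm]
    · rw [disjoint_iff, eq_bot_iff]
      rintro ⟨x, hx⟩ ⟨hxD, hxT⟩
      exact Subgroup.mem_bot.2 (Subtype.ext (hDT x hxD hxT))

end Cfsg.Agent.H50
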