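import Mathlib
import Cfsg.Agent.H50.InvolutionCA

/-!
Groups with elementary abelian involution centralizers: fixed points, and the sharp triple
transitivity on the cosets of the Sylow normalizer.
-/

namespace Cfsg.Agent.H50

variable {G : Type*} [Group G] [Finite G] {T : Sylow 2 G}

local notation "N" => Subgroup.normalizer (((T : Subgroup G)) : Set G)

/-- A point other than `N` is exchanged with it by an involution outside `N`. -/
theorem InvolutionCA.exists_exchange (h : InvolutionCA T) {y : G ⧸ N}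
    (hy : ((1 : G) : G ⧸ N) ≠ y) :
    ∃ u : G, orderOf u = 2 ∧ u ∉ N ∧ u • ((1 : G) : G ⧸ N) = y := by
  have hpos : 0 < Nat.card {i : G // orderOf i = 2 ∧ i • ((1 : G) : G ⧸ N) = y} := by
    rw [se_card_swap h.stronglyEmbedded hy, h.card_involutions]
    have := h.four_le
    omega
  obtain ⟨⟨i, hi, hiy⟩⟩ := (Nat.card_pos_iff.1 hpos).1
  refine ⟨i, hi, fun hN => hy ?_, hiy⟩
  rw [← hiy, smul_one_coset_eq_iff.2 hN]

/-- An involution exchanging `N` and its image: membership in the two-point stabilizer. -/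
theorem InvolutionCA.mem_two_point_iff {u d : G} (hu : orderOf u = 2) :
    d ∈ N ⊓ (N).map (MulAut.conj u).toMonoidHom ↔
      d • ((1 : G) : G ⧸ N) = ((1 : G) : G ⧸ N) ∧
        d • (u • ((1 : G) : G ⧸ N)) = u • ((1 : G) : G ⧸ N) := by
  rw [Subgroup.mem_inf, mem_map_conj, inv_eq_self hu, smul_one_coset_eq_iff]
  refine and_congr_right fun _ => ?_
  rw [smul_smul, ← smul_one_coset_eq_iff (H := N), mul_smul, mul_smul]
  constructor
  · intro e
    rw [mul_smul]
    exact (smul_smul_self hu (d • u • ((1 : G) : G ⧸ N))).symm.trans (congrArg (u • ·) e)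
  · intro e
    rw [mul_smul] at e
    rw [e, smul_smul_self hu]

/-- A nontrivial element fixes at most two points. -/
theorem InvolutionCA.fixed_two (h : InvolutionCA T) {d : G} {x y z : G ⧸ N} (hxy : x ≠ y)
    (hx : d • x = x) (hy : d • y = y) (hz : d • z = z) (hd1 : d ≠ 1) : z = x ∨ z = y := by
  classical
  have hSE := h.stronglyEmbedded
  obtain ⟨g, rfl⟩ := QuotientGroup.mk_surjective x
  -- translate the point `g N` to `N`
  set x₀ : G ⧸ N := ((1 : G) : G ⧸ N) with hx₀
  have hg : g • x₀ = ((g : G) : G ⧸ N) := by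
    rw [hx₀, MulAction.Quotient.smul_coe, smul_eq_mul, mul_one]
  set c := g⁻¹ * d * g with hc
  have hc1 : c ≠ 1 := fun e => hd1 (by rw [show d = g * c * g⁻¹ by rw [hc]; group, e]; group)
  have hfix : ∀ w : G ⧸ N, d • w = w → c • (g⁻¹ • w) = g⁻¹ • w := fun w hw => by
    rw [hc, mul_smul, mul_smul, smul_inv_smul, hw]
  have hcx : c • x₀ = x₀ := by
    have := hfix _ hx
    rwa [← hg, inv_smul_smul] at this
  suffices key : ∀ w : G ⧸ N, c • w = w → w ≠ x₀ → w = g⁻¹ • y by
    by_cases hz0 : g⁻¹ • z = x₀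
    · left; rw [← hg, ← hz0, smul_inv_smul]
    · right
      exact MulAction.injective g⁻¹ (key _ (hfix z hz) hz0)
  have hy0 : g⁻¹ • y ≠ x₀ := fun e => hxy (by rw [← hg, ← e, smul_inv_smul])
  have hcy := hfix y hy
  -- exchanging involutions invert `c`
  have hinvert : ∀ (u : G), orderOf u = 2 → u ∉ N → c • (u • x₀) = u • x₀ → u * c * u⁻¹ = c⁻¹ :=
    fun u hu huN hcu => (h.two_point hu huN).1 c
      ((InvolutionCA.mem_two_point_iff hu).2 ⟨hcx, hcu⟩)
  obtain ⟨u, hu, huN, huy⟩ := h.exists_exchange (Ne.symm hy0)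
  have huc := hinvert u hu huN (huy.symm ▸ hcy)
  have hodd : Odd (orderOf c) := se_odd_of_two_fixed hSE hy0.symm hcx hcy
  -- the centralizer of `c` has odd order
  set A : Subgroup G := Subgroup.centralizer ({c} : Set G) with hA
  have hcinv : c⁻¹ ≠ c := fun e => hc1 (orderOf_eq_one_iff.1
    (Nat.eq_one_of_dvd_coprimes (Nat.coprime_two_right.2 hodd) dvd_rfl
      (orderOf_dvd_of_pow_eq_one (by rw [pow_two]; nth_rewrite 1 [← e]; exact inv_mul_cancel c))))
  have hnoinv : ∀ t : G, orderOf t = 2 → t * c ≠ c * t := by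
    intro t ht e
    have hcC : c ∈ Subgroup.centralizer ({t} : Set G) :=
      Subgroup.mem_centralizer_singleton_iff.2 e.symm
    have hcc := (h.central t ht).2 c hcC
    rw [pow_two] at hcc
    exact hcinv (inv_eq_of_mul_eq_one_right hcc)
  -- exchanging involutions invert the centralizer
  have hAinv : ∀ (v : G), orderOf v = 2 → v * c * v⁻¹ = c⁻¹ →
      ∀ a ∈ A, v * a * v⁻¹ = a⁻¹ := by
    intro v hv hvc a ha
    have key : ∀ b ∈ A, v * b * v⁻¹ ∈ A := fun b hb => by
      have h1 : Commute (v * b * v⁻¹) c⁻¹ := by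
        rw [← hvc]
        exact (Commute.conj_iff v).2 (Subgroup.mem_centralizer_singleton_iff.1 hb)
      exact Subgroup.mem_centralizer_singleton_iff.2 (Commute.inv_right_iff.1 h1).eq
    let φ : A →* A :=
      { toFun := fun b => ⟨v * b.1 * v⁻¹, key b.1 b.2⟩
        map_one' := Subtype.ext (by simp)
        map_mul' := fun b b' => Subtype.ext (by simp [mul_assoc]) }
    have hfp : MonoidHom.FixedPointFree φ := by
      intro b hb
      have hb' : v * b.1 * v⁻¹ = b.1 := congrArg Subtype.val hb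
      rw [mul_inv_eq_iff_eq_mul] at hb'
      by_contra hne
      have hbT : b.1 ∈ Subgroup.centralizer ({v} : Set G) :=
        Subgroup.mem_centralizer_singleton_iff.2 hb'.symm
      have h2 := (h.central v hv).2 b.1 hbT
      rw [pow_two] at h2
      exact hnoinv b.1 (orderOf_eq_two h2 (fun e => hne (Subtype.ext e)))
        (Subgroup.mem_centralizer_singleton_iff.1 b.2)
    have hinvo : Function.Involutive φ := fun b => Subtype.ext (by
      show v * (v * b.1 * v⁻¹) * v⁻¹ = b.1
      rw [inv_eq_self hv, show v * (v * b.1 * v) * v = (v * v) * b.1 * (v * v) by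
        simp only [mul_assoc], inv_mul_self hv, one_mul, mul_one])
    exact congrArg Subtype.val (congrFun (hfp.coe_eq_inv_of_involutive hinvo) ⟨a, ha⟩)
  have hAu := hAinv u hu huc
  -- `u` moves all points fixed by `c`
  have humove : ∀ w : G ⧸ N, c • w = w → u • w ≠ w := by
    intro w hw huw
    obtain ⟨k, rfl⟩ := QuotientGroup.mk_surjective w
    have hmem : ∀ e : G, e • ((k : G) : G ⧸ N) = ((k : G) : G ⧸ N) → k⁻¹ * e * k ∈ N := by
      intro e he
      rw [MulAction.Quotient.smul_coe, smul_eq_mul, QuotientGroup.eq, mul_inv_rev] at he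
      have := inv_mem he
      simpa [mul_assoc] using this
    have huT : k⁻¹ * u * k ∈ T := InvolutionCA.mem_of_mem_normalizer (hmem u huw)
      (by have := orderOf_conj k⁻¹ u; rw [inv_inv] at this; rw [this, hu])
    have hcN := hmem c hw
    have h2 : (k⁻¹ * c * k)⁻¹ * ((k⁻¹ * u * k) * (k⁻¹ * c * k) * (k⁻¹ * u * k)⁻¹) ∈ (T : Subgroup G) := by
      rw [show (k⁻¹ * c * k)⁻¹ * ((k⁻¹ * u * k) * (k⁻¹ * c * k) * (k⁻¹ * u * k)⁻¹) =
        ((k⁻¹ * c * k)⁻¹ * (k⁻¹ * u * k) * (k⁻¹ * c * k)) * (k⁻¹ * u * k)⁻¹ by group]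
      exact mul_mem ((Subgroup.mem_normalizer_iff''.1 hcN _).1 huT) (inv_mem huT)
    have h3 : (k⁻¹ * c * k)⁻¹ * ((k⁻¹ * u * k) * (k⁻¹ * c * k) * (k⁻¹ * u * k)⁻¹) =
        k⁻¹ * (c⁻¹ * c⁻¹) * k := by
      conv_rhs => arg 1; arg 2; arg 2; rw [← huc]
      group
    rw [h3] at h2
    have h4 := h.sq h2
    have h5 : (c⁻¹ * c⁻¹) * (c⁻¹ * c⁻¹) = 1 := by
      calc (c⁻¹ * c⁻¹) * (c⁻¹ * c⁻¹)
          = k * ((k⁻¹ * (c⁻¹ * c⁻¹) * k) * (k⁻¹ * (c⁻¹ * c⁻¹) * k)) * k⁻¹ := by group
        _ = 1 := by rw [h4]; group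
    have h6 : orderOf c ∣ 4 := orderOf_dvd_of_pow_eq_one (by
      rw [← inv_inj, inv_one, ← h5, show (4 : ℕ) = 2 + 2 from rfl, pow_add, pow_two]; group)
    exact hc1 (orderOf_eq_one_iff.1
      (Nat.eq_one_of_dvd_coprimes (Nat.Coprime.pow_right 2 (Nat.coprime_two_right.2 hodd)) dvd_rfl h6))
  -- the centralizer is transitive on the other fixed points
  have htrans : ∀ w : G ⧸ N, c • w = w → w ≠ x₀ → ∃ a ∈ A, a • (g⁻¹ • y) = w := by
    intro w hw hw0
    obtain ⟨v, hv, hvN, hvw⟩ := h.exists_exchange (Ne.symm hw0)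
    have hvc := hinvert v hv hvN (hvw.symm ▸ hw)
    refine ⟨v * u, ?_, by rw [mul_smul, smul_swap hu huy, hvw]⟩
    rw [hA, Subgroup.mem_centralizer_singleton_iff]
    have h2 : v * u * c * (v * u)⁻¹ = c := by
      rw [show v * u * c * (v * u)⁻¹ = v * (u * c * u⁻¹) * v⁻¹ by group, huc,
        show v * c⁻¹ * v⁻¹ = (v * c * v⁻¹)⁻¹ by group, hvc, inv_inv]
    exact mul_inv_eq_iff_eq_mul.1 h2
  have hAx : ∀ a ∈ A, a • x₀ = x₀ := by
    intro a ha
    by_contra hne
    have hca : ∀ w : G ⧸ N, c • w = w → ∀ b ∈ A, c • b • w = b • w := fun w hw b hb => by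
      rw [smul_smul, ← Subgroup.mem_centralizer_singleton_iff.1 hb, mul_smul, hw]
    -- then the centralizer is transitive on all fixed points, an odd number exchanged by `u`
    obtain ⟨b, hb, hbe⟩ := htrans _ (hca _ hcx a ha) hne
    have hxy' : (a⁻¹ * b) • (g⁻¹ • y) = x₀ := by rw [mul_smul, hbe, inv_smul_smul]
    let O := MulAction.orbit A x₀
    haveI : Fintype O := Fintype.ofFinite _
    haveI : Fintype A := Fintype.ofFinite _
    have hOodd : Odd (Fintype.card O) := by
      have hAodd : Odd (Nat.card A) := by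
        by_contra hev
        rw [Nat.not_odd_iff_even] at hev
        obtain ⟨t, htA, ht⟩ := H28.exists_involution_mem hev
        exact hnoinv t ht (Subgroup.mem_centralizer_singleton_iff.1 htA)
      refine Odd.of_dvd_nat hAodd ?_
      rw [← Nat.card_eq_fintype_card, Nat.card_coe_set_eq, ← MulAction.index_stabilizer]
      exact Subgroup.index_dvd_card _
    have hmaps : ∀ w ∈ O, u • w ∈ O ∧ c • w = w := by
      rintro _ ⟨⟨e, he⟩, rfl⟩
      refine ⟨⟨⟨e⁻¹ * (b⁻¹ * a), mul_mem (inv_mem he) (mul_mem (inv_mem hb) ha)⟩, ?_⟩, hca _ hcx e he⟩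
      show (e⁻¹ * (b⁻¹ * a)) • x₀ = u • e • x₀
      rw [mul_smul, show b⁻¹ * a = (a⁻¹ * b)⁻¹ by group,
        show (a⁻¹ * b)⁻¹ • x₀ = g⁻¹ • y from inv_smul_eq_iff.2 hxy'.symm, ← huy, smul_smul,
        smul_smul, ← hAu e he, inv_mul_cancel_right]
    let f : Equiv.Perm O :=
      { toFun := fun w => ⟨u • w.1, (hmaps w.1 w.2).1⟩
        invFun := fun w => ⟨u • w.1, (hmaps w.1 w.2).1⟩
        left_inv := fun w => Subtype.ext (smul_smul_self hu _)
        right_inv := fun w => Subtype.ext (smul_smul_self hu _) }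
    haveI : Fact (Nat.Prime 2) := ⟨Nat.prime_two⟩
    obtain ⟨w, hw⟩ := Equiv.Perm.exists_fixed_point_of_prime (p := 2) (n := 1) (σ := f)
      (fun hd => Nat.not_even_iff_odd.2 hOodd (even_iff_two_dvd.2 hd))
      (by ext w; simp [pow_succ, f, smul_smul_self hu])
    exact humove w.1 (hmaps w.1 w.2).2 (congrArg Subtype.val hw)
  intro w hw hw0
  obtain ⟨a, ha, rfl⟩ := htrans w hw hw0
  have h1 : a⁻¹ • x₀ = x₀ := hAx _ (inv_mem ha)
  rw [← huy, smul_smul, ← (show u * a⁻¹ = a * u by
    rw [← hAu a ha, inv_eq_self hu, ← mul_assoc, ← mul_assoc, inv_mul_self hu, one_mul]),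
    mul_smul, h1]

/-- The Sylow subgroup is regular on the points other than its fixed point. -/
theorem InvolutionCA.regular (h : InvolutionCA T) {x y : G ⧸ N} (hx : x ≠ ((1 : G) : G ⧸ N))
    (hy : y ≠ ((1 : G) : G ⧸ N)) : ∃! t : G, t ∈ T ∧ t • x = y := by
  classical
  have hSE := h.stronglyEmbedded
  set x₀ : G ⧸ N := ((1 : G) : G ⧸ N) with hx₀
  have hfree : ∀ w : G ⧸ N, w ≠ x₀ → ∀ t ∈ (T : Subgroup G), t • w = w → t = 1 := by
    intro w hw t ht htw
    by_contra hne
    exact hw (se_fix_unique hSE (h.orderOf_eq ht hne) htw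
      (smul_one_coset_eq_iff.2 (Subgroup.le_normalizer ht)))
  have hinjT : ∀ w : G ⧸ N, w ≠ x₀ → ∀ s t : G, s ∈ T → t ∈ T → s • w = t • w → s = t := by
    intro w hw s t hs ht e
    have := hfree w hw (t⁻¹ * s) (mul_mem (inv_mem ht) hs) (by rw [mul_smul, e, inv_smul_smul])
    exact (inv_mul_eq_one.1 this).symm
  -- the number of other points is at most the order of the Sylow subgroup
  haveI : Fintype (G ⧸ N) := Fintype.ofFinite _
  haveI : Fintype G := Fintype.ofFinite _
  set q := Nat.card T with hq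
  have h4 := h.four_le
  let S : (G ⧸ N) → Finset G := fun w =>
    Finset.univ.filter fun e => (e • x₀ = x₀ ∧ e • w = w) ∧ e ≠ 1
  have hScard : ∀ w : G ⧸ N, w ≠ x₀ → (S w).card = q - 2 := by
    intro w hw
    obtain ⟨u, hu, huN, huw⟩ := h.exists_exchange (Ne.symm hw)
    have hD := (h.two_point hu huN).2.1
    have : S w = (Finset.univ.filter fun e => e ∈ N ⊓ (N).map (MulAut.conj u).toMonoidHom).erase 1 := by
      ext e
      simp only [S, Finset.mem_filter, Finset.mem_erase, Finset.mem_univ, true_and]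
      rw [InvolutionCA.mem_two_point_iff hu, huw]
      tauto
    rw [this, Finset.card_erase_of_mem (Finset.mem_filter.2 ⟨Finset.mem_univ _, one_mem _⟩),
      ← Fintype.card_subtype, ← Nat.card_eq_fintype_card]
    show Nat.card ↥(N ⊓ (N).map (MulAut.conj u).toMonoidHom) - 1 = q - 2
    rw [hD, ← hq]; omega
  set P := Finset.univ.filter fun w : G ⧸ N => w ≠ x₀ with hP
  have hdisj : (P : Set (G ⧸ N)).PairwiseDisjoint S := by
    intro w hw w' hw' hne
    rw [Function.onFun, Finset.disjoint_left]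
    intro e he he'
    simp only [S, Finset.mem_filter] at he he'
    simp only [hP, Finset.mem_coe, Finset.mem_filter] at hw hw'
    rcases h.fixed_two (Ne.symm hw.2) he.2.1.1 he.2.1.2 he'.2.1.2 he.2.2 with e1 | e1
    · exact hw'.2 e1
    · exact hne e1.symm
  have hsub : P.biUnion S ⊆ (Finset.univ.filter fun e : G => e ∈ N) \
      (Finset.univ.filter fun e : G => e ∈ (T : Subgroup G)) := by
    intro e he
    simp only [Finset.mem_biUnion, hP, Finset.mem_filter, S] at he
    obtain ⟨w, ⟨-, hw⟩, -, ⟨h1, h2⟩, h3⟩ := he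
    simp only [Finset.mem_sdiff, Finset.mem_filter, Finset.mem_univ, true_and]
    exact ⟨smul_one_coset_eq_iff.1 h1, fun hT => h3 (hfree w hw e hT h2)⟩
  have hle : P.card ≤ q := by
    have hcN : (Finset.univ.filter fun e : G => e ∈ N).card = Nat.card ↥N :=
      (Fintype.card_subtype _).symm.trans Fintype.card_eq_nat_card
    have hcT : (Finset.univ.filter fun e : G => e ∈ (T : Subgroup G)).card = q :=
      (Fintype.card_subtype _).symm.trans Fintype.card_eq_nat_card
    have h1 := Finset.card_le_card hsub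
    rw [Finset.card_biUnion hdisj, Finset.sum_congr rfl (fun w hw => hScard w (Finset.mem_filter.1 hw).2),
      Finset.sum_const, smul_eq_mul, Finset.card_sdiff_of_subset (by
        intro e he
        simp only [Finset.mem_filter, Finset.mem_univ, true_and] at he ⊢
        exact Subgroup.le_normalizer he),
      hcN, hcT] at h1
    obtain ⟨w, hw⟩ : ∃ w, w ≠ x₀ := ⟨x, hx⟩
    obtain ⟨u, hu, huN, -⟩ := h.exists_exchange (Ne.symm hw)
    have hN := (h.two_point hu huN).2.2.1
    rw [hN, ← hq, show q * (q - 1) - q = q * (q - 2) by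
      rw [show q - 1 = (q - 2) + 1 by omega, Nat.mul_succ, Nat.add_sub_cancel]] at h1
    exact Nat.le_of_mul_le_mul_right h1 (by omega)
  let f : ↥(T : Subgroup G) → {w : G ⧸ N // w ∈ P} := fun t => ⟨t.1 • x, by
    simp only [hP, Finset.mem_filter, Finset.mem_univ, true_and]
    intro e
    apply hx
    rw [← inv_smul_smul t.1 x, e, hx₀, smul_one_coset_eq_iff.2 (Subgroup.le_normalizer (inv_mem t.2))]⟩
  have hf : Function.Injective f := fun s t e =>
    Subtype.ext (hinjT x hx _ _ s.2 t.2 (congrArg Subtype.val e))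
  have hcard : Nat.card (T : Subgroup G) = Nat.card {w : G ⧸ N // w ∈ P} := by
    refine le_antisymm (Nat.card_le_card_of_injective f hf) ?_
    rw [Nat.card_eq_fintype_card, Fintype.card_coe]
    exact hle
  obtain ⟨t, ht⟩ := ((Nat.bijective_iff_injective_and_card f).2 ⟨hf, hcard⟩).2
    ⟨y, Finset.mem_filter.2 ⟨Finset.mem_univ _, hy⟩⟩
  exact ⟨t.1, ⟨t.2, congrArg Subtype.val ht⟩, fun s hs =>
    hinjT x hx s t.1 hs.1 t.2 (hs.2.trans (congrArg Subtype.val ht).symm)⟩

end Cfsg.Agent.H50
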