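import Mathlib
import Cfsg.Agent.H50.InvolutionCAAction

/-!
Groups with elementary abelian involution centralizers: the normalizer of a two-point stabilizer and
sharp triple transitivity.
-/

namespace Cfsg.Agent.H50

variable {G : Type*} [Group G] [Finite G] {T : Sylow 2 G}

local notation "N" => Subgroup.normalizer (((T : Subgroup G)) : Set G)

/-- The normalizer and the fixed points of a two-point stabilizer. -/
theorem InvolutionCA.two_point_normalizer (h : InvolutionCA T) {u : G} (hu : orderOf u = 2)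
    (huH : u ∉ N) :
    Subgroup.normalizer ((N ⊓ (N).map (MulAut.conj u).toMonoidHom : Subgroup G) : Set G) =
        (N ⊓ (N).map (MulAut.conj u).toMonoidHom) ⊔ Subgroup.zpowers u ∧
      ∀ g : G, ((∀ d ∈ N ⊓ (N).map (MulAut.conj u).toMonoidHom,
          d • (QuotientGroup.mk g : G ⧸ N) = QuotientGroup.mk g) ↔
        (QuotientGroup.mk g : G ⧸ N) = QuotientGroup.mk 1 ∨
          (QuotientGroup.mk g : G ⧸ N) = QuotientGroup.mk u) := by
  set D : Subgroup G := N ⊓ (N).map (MulAut.conj u).toMonoidHom with hD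
  set x₀ : G ⧸ N := ((1 : G) : G ⧸ N) with hx₀
  have hu1 : u • x₀ = ((u : G) : G ⧸ N) := by
    rw [hx₀, MulAction.Quotient.smul_coe, smul_eq_mul, mul_one]
  have hxy : x₀ ≠ u • x₀ := fun e => huH (smul_one_coset_eq_iff.1 e.symm)
  have hmem : ∀ d : G, d ∈ D ↔ d • x₀ = x₀ ∧ d • u • x₀ = u • x₀ := fun d =>
    InvolutionCA.mem_two_point_iff hu
  obtain ⟨d₀, hd₀, hd₀1⟩ : ∃ d ∈ D, d ≠ 1 := by
    by_contra hcon
    push Not at hcon
    have h1 := (h.two_point hu huH).2.1
    rw [← hD, (Subgroup.eq_bot_iff_forall D).2 hcon, Subgroup.card_bot] at h1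
    have := h.four_le
    omega
  have hfix : ∀ w : G ⧸ N, (∀ d ∈ D, d • w = w) → w = x₀ ∨ w = u • x₀ := fun w hw =>
    h.fixed_two hxy ((hmem d₀).1 hd₀).1 ((hmem d₀).1 hd₀).2 (hw d₀ hd₀) hd₀1
  refine ⟨le_antisymm ?_ ?_, fun g => ⟨fun hg => ?_, fun hg d hd => ?_⟩⟩
  · intro g hg
    have hmove : ∀ w : G ⧸ N, (∀ d ∈ D, d • w = w) → ∀ d ∈ D, d • g • w = g • w := by
      intro w hw d hd
      have h1 := hw _ ((Subgroup.mem_normalizer_iff''.1 hg d).1 hd)
      rw [mul_smul, mul_smul, inv_smul_eq_iff] at h1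
      exact h1
    have hgx := hfix _ (hmove x₀ fun d hd => ((hmem d).1 hd).1)
    have hgy := hfix _ (hmove (u • x₀) fun d hd => ((hmem d).1 hd).2)
    rcases hgx with e1 | e1
    · refine Subgroup.mem_sup_left ((hmem g).2 ⟨e1, ?_⟩)
      rcases hgy with e2 | e2
      · exact absurd (MulAction.injective g (e1.trans e2.symm)) hxy
      · exact e2
    · rcases hgy with e2 | e2
      · have h1 : u * g ∈ D := (hmem _).2
          ⟨by rw [mul_smul, e1, smul_smul_self hu], by rw [mul_smul, e2]⟩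
        have h2 := mul_mem (Subgroup.mem_sup_right (S := D) (Subgroup.mem_zpowers u))
          (Subgroup.mem_sup_left (T := Subgroup.zpowers u) h1)
        rwa [← mul_assoc, inv_mul_self hu, one_mul] at h2
      · exact absurd (MulAction.injective g (e1.trans e2.symm)) hxy
  · refine sup_le Subgroup.le_normalizer (Subgroup.zpowers_le.2 ?_)
    have hiff : ∀ d : G, d ∈ D → u * d * u⁻¹ ∈ D := fun d hd => by
      rw [(h.two_point hu huH).1 d hd]
      exact inv_mem hd
    refine Subgroup.mem_normalizer_iff.2 fun d => ⟨hiff d, fun hd => ?_⟩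
    have h1 := hiff _ hd
    rwa [inv_eq_self hu, show u * (u * d * u) * u = (u * u) * d * (u * u) by simp only [mul_assoc],
      inv_mul_self hu, one_mul, mul_one] at h1
  · rw [← hu1]; exact hfix _ hg
  · rcases hg with e | e <;> rw [e]
    · exact ((hmem d).1 hd).1
    · rw [← hu1]; exact ((hmem d).1 hd).2

/-- A nontrivial element has no three fixed points. -/
theorem InvolutionCA.three_fixed (h : InvolutionCA T) {g : G} {x₁ x₂ x₃ : G ⧸ N} (h12 : x₁ ≠ x₂)
    (h13 : x₁ ≠ x₃) (h23 : x₂ ≠ x₃) (e1 : g • x₁ = x₁) (e2 : g • x₂ = x₂) (e3 : g • x₃ = x₃) :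
    g = 1 := by
  by_contra hne
  rcases h.fixed_two h12 e1 e2 e3 hne with e | e
  · exact h13 e.symm
  · exact h23 e.symm

/-- The group is triply transitive. -/
theorem InvolutionCA.triply_transitive (h : InvolutionCA T) {x₁ x₂ x₃ y₁ y₂ y₃ : G ⧸ N}
    (h12 : x₁ ≠ x₂) (h13 : x₁ ≠ x₃) (h23 : x₂ ≠ x₃) (k12 : y₁ ≠ y₂) (k13 : y₁ ≠ y₃)
    (k23 : y₂ ≠ y₃) : ∃ g : G, g • x₁ = y₁ ∧ g • x₂ = y₂ ∧ g • x₃ = y₃ := by
  classical
  obtain ⟨u, hu, huH⟩ : ∃ u : G, orderOf u = 2 ∧ u ∉ N := by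
    obtain ⟨g, hg⟩ := SetLike.exists_of_lt (lt_top_iff_ne_top.2 h.stronglyEmbedded.1)
    obtain ⟨u, hu, huN, -⟩ := h.exists_exchange (y := ((g : G) : G ⧸ N)) (by
      intro e
      rw [QuotientGroup.eq] at e
      exact hg.2 (by simpa using e))
    exact ⟨u, hu, huN⟩
  set x₀ : G ⧸ N := ((1 : G) : G ⧸ N) with hx₀
  set y₀ : G ⧸ N := u • x₀ with hy₀
  have hxy : x₀ ≠ y₀ := fun e => huH (smul_one_coset_eq_iff.1 e.symm)
  -- move a pair to the standard one
  have hpair : ∀ x y : G ⧸ N, x ≠ y → ∃ g : G, g • x = x₀ ∧ g • y = y₀ := by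
    intro x y hne
    obtain ⟨k, rfl⟩ := QuotientGroup.mk_surjective x
    have hk : k⁻¹ • ((k : G) : G ⧸ N) = x₀ := by
      rw [MulAction.Quotient.smul_coe, smul_eq_mul, inv_mul_cancel]
    have hy : k⁻¹ • y ≠ x₀ := fun e => hne (MulAction.injective k⁻¹ (hk.trans e.symm))
    obtain ⟨t, ⟨ht, hty⟩, -⟩ := h.regular hy hxy.symm
    exact ⟨t * k⁻¹, by rw [mul_smul, hk, hx₀, smul_one_coset_eq_iff.2 (Subgroup.le_normalizer ht)],
      by rw [mul_smul, hty]⟩
  obtain ⟨g, g1, g2⟩ := hpair x₁ x₂ h12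
  obtain ⟨k, k1, k2⟩ := hpair y₁ y₂ k12
  -- the two-point stabilizer is transitive on the remaining points
  set D : Subgroup G := N ⊓ (N).map (MulAut.conj u).toMonoidHom with hD
  haveI : Fintype (G ⧸ N) := Fintype.ofFinite _
  let P := {w : G ⧸ N // w ≠ x₀ ∧ w ≠ y₀}
  have hgp : g • x₃ ≠ x₀ ∧ g • x₃ ≠ y₀ :=
    ⟨fun e => h13 (MulAction.injective g (g1.trans e.symm)),
      fun e => h23 (MulAction.injective g (g2.trans e.symm))⟩
  have hkp : k • y₃ ≠ x₀ ∧ k • y₃ ≠ y₀ :=
    ⟨fun e => k13 (MulAction.injective k (k1.trans e.symm)),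
      fun e => k23 (MulAction.injective k (k2.trans e.symm))⟩
  have hm : ∀ d : D, d.1 • x₀ = x₀ ∧ d.1 • y₀ = y₀ := fun d =>
    (InvolutionCA.mem_two_point_iff hu).1 d.2
  let f : D → P := fun d => ⟨d.1 • g • x₃,
    fun e => hgp.1 (MulAction.injective d.1 (e.trans (hm d).1.symm)),
    fun e => hgp.2 (MulAction.injective d.1 (e.trans (hm d).2.symm))⟩
  have hf : Function.Injective f := by
    intro d d' e
    have e' : d.1 • g • x₃ = d'.1 • g • x₃ := congrArg Subtype.val e
    have h1 := h.three_fixed (g := d'.1⁻¹ * d.1) hxy hgp.1.symm hgp.2.symm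
      ((InvolutionCA.mem_two_point_iff hu).1 (mul_mem (inv_mem d'.2) d.2)).1
      ((InvolutionCA.mem_two_point_iff hu).1 (mul_mem (inv_mem d'.2) d.2)).2
      (by rw [mul_smul, e', inv_smul_smul])
    exact Subtype.ext (inv_mul_eq_one.1 h1).symm
  have hcard : Nat.card P ≤ Nat.card D := by
    rw [(h.two_point hu huH).2.1]
    let j : P → {t : ↥(T : Subgroup G) // t ≠ 1} := fun w =>
      ⟨⟨(h.regular hxy.symm w.2.1).exists.choose, (h.regular hxy.symm w.2.1).exists.choose_spec.1⟩,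
        fun e => w.2.2 (by
          have h1 := (h.regular hxy.symm w.2.1).exists.choose_spec.2
          rw [show (h.regular hxy.symm w.2.1).exists.choose = 1 from congrArg Subtype.val e,
            one_smul] at h1
          exact h1.symm)⟩
    have hj : Function.Injective j := by
      intro w w' e
      have e' : (h.regular hxy.symm w.2.1).exists.choose = (h.regular hxy.symm w'.2.1).exists.choose :=
        congrArg (fun v : {t : ↥(T : Subgroup G) // t ≠ 1} => (v.1 : G)) e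
      exact Subtype.ext (by
        rw [← (h.regular hxy.symm w.2.1).exists.choose_spec.2, e',
          (h.regular hxy.symm w'.2.1).exists.choose_spec.2])
    refine (Nat.card_le_card_of_injective j hj).trans (le_of_eq ?_)
    haveI : Fintype (T : Subgroup G) := Fintype.ofFinite _
    rw [Nat.card_eq_fintype_card, Fintype.card_subtype_compl, Fintype.card_subtype_eq]
    exact congrArg (· - 1) Fintype.card_eq_nat_card
  obtain ⟨d, hd⟩ := ((Nat.bijective_iff_injective_and_card f).2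
    ⟨hf, le_antisymm (Nat.card_le_card_of_injective f hf) hcard⟩).2 ⟨k • y₃, hkp⟩
  have hd' : d.1 • g • x₃ = k • y₃ := congrArg Subtype.val hd
  refine ⟨k⁻¹ * d.1 * g, ?_, ?_, ?_⟩
  · rw [mul_smul, mul_smul, g1, (hm d).1, ← k1, inv_smul_smul]
  · rw [mul_smul, mul_smul, g2, (hm d).2, ← k2, inv_smul_smul]
  · rw [mul_smul, mul_smul, hd', inv_smul_smul]

end Cfsg.Agent.H50
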