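import Mathlib
import Cfsg.Agent.H50.InvolutionCATriple
import Cfsg.Agent.H31.Mobius

/-!
Groups with elementary abelian involution centralizers: the field structure on the Sylow subgroup and
the identification with `PSL(2, q)`.
-/

set_option linter.style.haveILetI false

namespace Cfsg.Agent.H50

universe v

variable {G : Type v} [Group G] [Finite G] {T : Sylow 2 G}

local notation "N" => Subgroup.normalizer (((T : Subgroup G)) : Set G)

/-- An abelian group of exponent two with a family of automorphisms, pairwise commuting and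
transitive on the nontrivial elements: it carries a field structure in which the family consists of the
multiplications by the nonzero elements. -/
theorem exists_field_of_transitive {A : Type v} [AddCommGroup A] [Finite A] (t₀ : A) (ht₀ : t₀ ≠ 0)
    {ι : Type v} (φ : ι → AddMonoid.End A) (hone : ∃ i, φ i = 1)
    (hcomm : ∀ i j, φ i * φ j = φ j * φ i) (hinj : ∀ i a, φ i a = 0 → a = 0)
    (htrans : ∀ a : A, a ≠ 0 → ∃ i, φ i t₀ = a) :
    ∃ (F : Type) (_ : Field F) (e : F ≃+ A), e 1 = t₀ ∧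
      (∀ i, ∃ c : F, c ≠ 0 ∧ ∀ b, φ i (e b) = e (c * b)) ∧
      (∀ c : F, c ≠ 0 → ∃ i, ∀ b, φ i (e b) = e (c * b)) := by
  classical
  let K : Subring (AddMonoid.End A) := Subring.centralizer (Set.range φ)
  have hφK : ∀ i, φ i ∈ K := fun i => by
    rw [Subring.mem_centralizer_iff]
    rintro _ ⟨j, rfl⟩
    exact hcomm j i
  -- elements of `K` are determined by their value at `t₀`
  have hdet : ∀ f g : K, f.1 t₀ = g.1 t₀ → f = g := by
    intro f g h
    refine Subtype.ext (AddMonoidHom.ext fun a => ?_)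
    show f.1 a = g.1 a
    by_cases ha : a = 0
    · simp [ha]
    · obtain ⟨i, hi⟩ := htrans a ha
      have hf := DFunLike.congr_fun (Subring.mem_centralizer_iff.1 f.2 _ ⟨i, rfl⟩) t₀
      have hg := DFunLike.congr_fun (Subring.mem_centralizer_iff.1 g.2 _ ⟨i, rfl⟩) t₀
      change φ i (f.1 t₀) = f.1 (φ i t₀) at hf
      change φ i (g.1 t₀) = g.1 (φ i t₀) at hg
      rw [← hi, ← hf, ← hg, h]
  have hnz : ∀ f : K, f ≠ 0 → ∃ i, f = ⟨φ i, hφK i⟩ := by
    intro f hf
    have h1 : f.1 t₀ ≠ 0 := fun h => hf (hdet f 0 (by simpa using h))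
    obtain ⟨i, hi⟩ := htrans _ h1
    exact ⟨i, hdet f _ hi.symm⟩
  obtain ⟨i₁, hi₁⟩ := hone
  have hfield : IsField K := by
    refine ⟨⟨0, 1, fun h => ht₀ ?_⟩, ?_, ?_⟩
    · have := DFunLike.congr_fun (congrArg Subtype.val h) t₀
      exact this.symm
    · intro f g
      by_cases hf : f = 0
      · simp [hf]
      obtain ⟨i, rfl⟩ := hnz f hf
      exact Subtype.ext (Subring.mem_centralizer_iff.1 g.2 _ ⟨i, rfl⟩)
    · intro f hf
      obtain ⟨i, rfl⟩ := hnz f hf
      have hb : Function.Bijective (φ i) :=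
        Finite.injective_iff_bijective.1 ((injective_iff_map_eq_zero (φ i)).2 (hinj i))
      obtain ⟨a, ha⟩ := hb.2 t₀
      have ha0 : a ≠ 0 := fun h => ht₀ (by rw [← ha, h]; exact map_zero (φ i))
      obtain ⟨j, hj⟩ := htrans a ha0
      refine ⟨⟨φ j, hφK j⟩, hdet _ _ ?_⟩
      show φ i (φ j t₀) = t₀
      rw [hj, ha]
  letI : Field K := hfield.toField
  have hev : Function.Bijective fun f : K => f.1 t₀ := by
    refine ⟨hdet, fun a => ?_⟩
    by_cases ha : a = 0
    · exact ⟨0, ha.symm⟩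
    · obtain ⟨i, hi⟩ := htrans a ha
      exact ⟨⟨φ i, hφK i⟩, hi⟩
  haveI : Finite K := Finite.of_injective _ hev.1
  haveI : Small.{0} K := Countable.toSmall K
  let r := Shrink.ringEquiv.{0} (α := K)
  let ev : K ≃+ A := { Equiv.ofBijective _ hev with map_add' := fun _ _ => rfl }
  refine ⟨Shrink.{0} K, inferInstance, (r.toAddEquiv).trans ev, ?_, ?_, ?_⟩
  · show (r 1).1 t₀ = t₀
    rw [map_one]; rfl
  · intro i
    refine ⟨r.symm ⟨φ i, hφK i⟩, ?_, fun b => ?_⟩
    · intro h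
      rw [map_eq_zero_iff r.symm r.symm.injective] at h
      exact ht₀ (hinj i t₀ (DFunLike.congr_fun (congrArg Subtype.val h) t₀))
    · show φ i ((r b).1 t₀) = (r (r.symm ⟨φ i, hφK i⟩ * b)).1 t₀
      rw [map_mul, RingEquiv.apply_symm_apply]
      rfl
  · intro c hc
    obtain ⟨i, hi⟩ := hnz (r c) (by rwa [Ne, map_eq_zero_iff r r.injective])
    refine ⟨i, fun b => ?_⟩
    show φ i ((r b).1 t₀) = (r (c * b)).1 t₀
    rw [map_mul, hi]
    rfl

/-- Groups with elementary abelian involution centralizers and noncyclic non-normal Sylow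
2-subgroup are `PSL(2, q)`. -/
theorem InvolutionCA.is_psl_two (h : InvolutionCA T) :
    ∃ (F : Type) (_ : Field F) (_ : Fintype F), Fintype.card F = Nat.card T ∧
      Nonempty (G ≃* Matrix.ProjectiveSpecialLinearGroup (Fin 2) F) := by
  classical
  set x₀ : G ⧸ N := ((1 : G) : G ⧸ N) with hx₀
  obtain ⟨g, hg⟩ := SetLike.exists_of_lt (lt_top_iff_ne_top.2 h.stronglyEmbedded.1)
  obtain ⟨u₁, hu₁, hu₁N, -⟩ := h.exists_exchange (y := ((g : G) : G ⧸ N)) (by
    intro e
    rw [QuotientGroup.eq] at e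
    exact hg.2 (by simpa using e))
  set y₀ : G ⧸ N := u₁ • x₀ with hy₀
  have hxy : x₀ ≠ y₀ := fun e => hu₁N (smul_one_coset_eq_iff.1 e.symm)
  set D : Subgroup G := N ⊓ (N).map (MulAut.conj u₁).toMonoidHom with hD
  have hDmem : ∀ d : G, d ∈ D ↔ d • x₀ = x₀ ∧ d • y₀ = y₀ := fun d =>
    InvolutionCA.mem_two_point_iff hu₁
  have hDN : ∀ d : G, d ∈ D → d ∈ N := fun d hd => smul_one_coset_eq_iff.1 ((hDmem d).1 hd).1
  obtain ⟨hDinv, hDcard, -, -⟩ := h.two_point hu₁ hu₁N
  obtain ⟨t₀, ht₀T, ht₀⟩ := h.exists_involution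
  have hTx : ∀ t : G, t ∈ T → t • x₀ = x₀ := fun t ht =>
    smul_one_coset_eq_iff.2 (Subgroup.le_normalizer ht)
  have hTy : ∀ t : G, t ∈ T → t ≠ 1 → t • y₀ ≠ y₀ := fun t ht ht1 e =>
    hxy (se_fix_unique h.stronglyEmbedded (h.orderOf_eq ht ht1) (hTx t ht) e)
  set z := t₀ • y₀ with hz
  have hzy : z ≠ y₀ := hTy t₀ ht₀T (fun e => by rw [e, orderOf_one] at ht₀; omega)
  have hzx : z ≠ x₀ := fun e => hxy (MulAction.injective t₀ ((hTx t₀ ht₀T).trans e.symm))
  -- correct the exchanging involution so that it fixes `z`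
  obtain ⟨k, hk1, hk2, hk3⟩ := h.triply_transitive hxy hzx.symm hzy.symm hxy.symm hzy.symm hzx.symm
    (y₁ := y₀) (y₂ := x₀) (y₃ := z)
  have hkD : u₁ * k ∈ D := (hDmem _).2
    ⟨by rw [mul_smul, hk1, hy₀, smul_smul_self hu₁], by rw [mul_smul, hk2]⟩
  have hk : k = u₁ * (u₁ * k) := by rw [← mul_assoc, inv_mul_self hu₁, one_mul]
  have hkD' : ∀ d ∈ D, k * d * k⁻¹ = d⁻¹ := by
    intro d hd
    have hcm : (u₁ * k) * d * (u₁ * k)⁻¹ = d := by
      have h1 := hDinv _ (mul_mem hkD hd)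
      rw [← conj_mul, hDinv _ hkD, hDinv _ hd, ← mul_inv_rev] at h1
      rw [mul_inv_eq_iff_eq_mul]
      exact inv_inj.1 h1.symm
    rw [hk, show u₁ * (u₁ * k) * d * (u₁ * (u₁ * k))⁻¹ = u₁ * ((u₁ * k) * d * (u₁ * k)⁻¹) * u₁⁻¹ by
      group, hcm, hDinv d hd]
  haveI : IsMulCommutative (T : Subgroup G) :=
    ⟨⟨fun a b => Subtype.ext (h.comm a.2 b.2)⟩⟩
  open scoped IsMulCommutative in
  obtain ⟨F, instF, e, he1, hDF, hFD⟩ : ∃ (F : Type) (_ : Field F)
      (e : F ≃+ Additive ↥(T : Subgroup G)),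
      ((e 1).toMul : G) = t₀ ∧
      (∀ d ∈ D, ∃ c : F, c ≠ 0 ∧ ∀ b, d * ((e b).toMul : G) * d⁻¹ = ((e (c * b)).toMul : G)) ∧
      (∀ c : F, c ≠ 0 → ∃ d ∈ D, ∀ b, d * ((e b).toMul : G) * d⁻¹ = ((e (c * b)).toMul : G)) := by
    have hconj : ∀ d ∈ D, ∀ t : ↥(T : Subgroup G), d * (t : G) * d⁻¹ ∈ (T : Subgroup G) :=
      fun d hd t => (Subgroup.mem_normalizer_iff.1 (hDN d hd) _).1 t.2
    let φ : D → AddMonoid.End (Additive ↥(T : Subgroup G)) := fun d => MonoidHom.toAdditive
      { toFun := fun t => ⟨d.1 * t * d.1⁻¹, hconj d.1 d.2 t⟩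
        map_one' := Subtype.ext (by simp)
        map_mul' := fun a b => Subtype.ext (by simp) }
    obtain ⟨F, instF, e, he1, hφ, hψ⟩ := exists_field_of_transitive
      (Additive.ofMul (⟨t₀, ht₀T⟩ : ↥(T : Subgroup G)))
      (fun e => by
        have e' : t₀ = 1 := congrArg (fun a : Additive ↥(T : Subgroup G) => (a.toMul : G)) e
        rw [e', orderOf_one] at ht₀; omega) φ
      ⟨1, AddMonoidHom.ext fun a => Subtype.ext (show 1 * (a.toMul : G) * 1⁻¹ = a.toMul by simp)⟩
      (fun d d' => AddMonoidHom.ext fun a => Subtype.ext (by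
        show d.1 * (d'.1 * (a.toMul : G) * d'.1⁻¹) * d.1⁻¹ =
          d'.1 * (d.1 * (a.toMul : G) * d.1⁻¹) * d'.1⁻¹
        have hc : d.1 * d'.1 = d'.1 * d.1 := by
          have h1 := hDinv _ (mul_mem d.2 d'.2)
          rw [← conj_mul, hDinv _ d.2, hDinv _ d'.2, ← mul_inv_rev] at h1
          exact (inv_inj.1 h1).symm
        rw [show d.1 * (d'.1 * (a.toMul : G) * d'.1⁻¹) * d.1⁻¹ =
          (d.1 * d'.1) * a.toMul * (d.1 * d'.1)⁻¹ by group, hc]
        group))
      (fun d a ha => by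
        have ha' : d.1 * (a.toMul : G) * d.1⁻¹ = 1 :=
          congrArg (fun a : Additive ↥(T : Subgroup G) => (a.toMul : G)) ha
        simpa using ha')
      (fun a ha => by
        have ha1 : (a.toMul : G) ≠ 1 := fun e => ha (Subtype.ext e)
        have haz : (a.toMul : G) • y₀ ≠ x₀ := fun e =>
          hxy (MulAction.injective (a.toMul : G) ((hTx _ a.toMul.2).trans e.symm))
        obtain ⟨d, d1, d2, d3⟩ := h.triply_transitive hxy hzx.symm hzy.symm hxy haz.symm
          (hTy _ a.toMul.2 ha1).symm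
        have hd : d ∈ D := (hDmem d).2 ⟨d1, d2⟩
        refine ⟨⟨d, hd⟩, Subtype.ext (show d * t₀ * d⁻¹ = (a.toMul : G) from ?_)⟩
        have hdy : d⁻¹ • y₀ = y₀ := inv_smul_eq_iff.2 d2.symm
        refine (h.regular hxy.symm haz).unique ⟨hconj d hd ⟨t₀, ht₀T⟩, ?_⟩ ⟨a.toMul.2, rfl⟩
        rw [mul_smul, mul_smul, hdy]
        exact d3)
    refine ⟨F, instF, e, ?_, fun d hd => ?_, fun c hc => ?_⟩
    · rw [he1]; rfl
    · obtain ⟨c, hc, hcb⟩ := hφ ⟨d, hd⟩
      exact ⟨c, hc, fun b => congrArg (fun a : Additive ↥(T : Subgroup G) => (a.toMul : G)) (hcb b)⟩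
    · obtain ⟨d, hd⟩ := hψ c hc
      exact ⟨d.1, d.2, fun b => congrArg (fun a : Additive ↥(T : Subgroup G) => (a.toMul : G)) (hd b)⟩
  let tT : F → G := fun b => ((e b).toMul : G)
  have htT : ∀ b, tT b ∈ T := fun b => (e b).toMul.2
  have ht_add : ∀ a b, tT (a + b) = tT a * tT b := fun a b => by
    show ((e (a + b)).toMul : G) = _
    rw [map_add]; rfl
  have ht_zero : tT 0 = 1 := by
    show ((e 0).toMul : G) = _
    rw [map_zero]; rfl
  haveI : Finite F := Finite.of_equiv _ e.toEquiv.symm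
  haveI : Fintype F := Fintype.ofFinite F
  have hF2 : ringChar F = 2 := by
    haveI : CharP F 2 := CharTwo.of_one_ne_zero_of_two_eq_zero one_ne_zero (by
      rw [← one_add_one_eq_two]
      apply e.injective
      rw [map_zero]
      refine Subtype.ext (?_ : ((e (1 + 1)).toMul : G) = 1)
      show tT (1 + 1) = 1
      rw [ht_add, h.sq (htT 1)])
    exact ringChar.eq F 2
  haveI : CharP F 2 := ringChar.of_eq hF2
  -- the projective line
  let toPt : OnePoint F → G ⧸ N := fun p => Option.elim p x₀ (fun b => tT b • y₀)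
  have hne : ∀ b, tT b • y₀ ≠ x₀ := fun b e' =>
    hxy (MulAction.injective (tT b) ((hTx _ (htT b)).trans e'.symm))
  have htinj : ∀ a b, tT a = tT b → a = b := fun a b e' => e.injective (Subtype.ext e')
  have hbij : Function.Bijective toPt := by
    constructor
    · rintro (_ | a) (_ | b) e'
      · rfl
      · exact absurd e'.symm (hne b)
      · exact absurd e' (hne a)
      · exact congrArg _ (htinj a b ((h.regular hxy.symm (hne b)).unique ⟨htT a, e'⟩ ⟨htT b, rfl⟩))
    · intro p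
      by_cases hp : p = x₀
      · exact ⟨OnePoint.infty, hp.symm⟩
      · obtain ⟨t, ⟨ht, htp⟩, -⟩ := h.regular hxy.symm hp
        refine ⟨((e.symm (Additive.ofMul ⟨t, ht⟩) : F) : OnePoint F), ?_⟩
        show ((e (e.symm (Additive.ofMul ⟨t, ht⟩))).toMul : G) • y₀ = p
        rw [AddEquiv.apply_symm_apply]
        exact htp
  let pe : OnePoint F ≃ G ⧸ N := Equiv.ofBijective toPt hbij
  let ρ : G →* Equiv.Perm (OnePoint F) :=
    { toFun := fun g => (pe.trans (MulAction.toPerm g)).trans pe.symm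
      map_one' := by ext p; simp
      map_mul' := fun a b => by ext p; simp [mul_smul] }
  have hρ : ∀ g p q, g • toPt p = toPt q → ρ g p = q := fun g p q e' => by
    show pe.symm (g • pe p) = q
    rw [Equiv.symm_apply_eq]; exact e'
  have hρinj : Function.Injective ρ := by
    rw [injective_iff_map_eq_one]
    intro g hg
    have hfix : ∀ p, g • pe p = pe p := fun p => by
      have h1 : pe.symm (g • pe p) = p := DFunLike.congr_fun hg p
      rwa [Equiv.symm_apply_eq] at h1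
    have hall : ∀ w, g • w = w := fun w => by
      obtain ⟨p, rfl⟩ := pe.surjective w; exact hfix p
    exact h.three_fixed hxy hzx.symm hzy.symm (hall _) (hall _) (hall _)
  have hD_act : ∀ d ∈ D, ∀ c : F, (∀ b, d * tT b * d⁻¹ = tT (c * b)) →
      ∀ b, d • tT b • y₀ = tT (c * b) • y₀ := by
    intro d hd c hc b
    have hdy : d⁻¹ • y₀ = y₀ := inv_smul_eq_iff.2 ((hDmem d).1 hd).2.symm
    rw [← hc b, mul_smul, mul_smul, hdy]
  -- translations, torus and Weyl element
  have htrans : ∀ b : F, ρ (tT b) = H31.mobius (H31.sTrans b) := by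
    intro b
    refine Equiv.ext fun p => hρ _ _ _ ?_
    cases p with
    | infty => rw [H31.mobius_sTrans_infty]; exact hTx _ (htT b)
    | coe a =>
      rw [H31.mobius_sTrans_some]
      show tT b • tT a • y₀ = tT (a + b) • y₀
      rw [smul_smul, ← ht_add, add_comm]
  have hdiag : ∀ d ∈ D, ∀ (r : F) (hr : r ≠ 0), (∀ b, d * tT b * d⁻¹ = tT (r ^ 2 * b)) →
      ρ d = H31.mobius (H31.sDiag r hr) := by
    intro d hd r hr hc
    refine Equiv.ext fun p => hρ _ _ _ ?_
    cases p with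
    | infty => rw [H31.mobius_sDiag_infty]; exact ((hDmem d).1 hd).1
    | coe a => rw [H31.mobius_sDiag_some]; exact hD_act d hd _ hc a
  have hweyl : ρ k = H31.mobius H31.sWeyl := by
    refine Equiv.ext fun p => hρ _ _ _ ?_
    cases p with
    | infty =>
      rw [H31.mobius_sWeyl_infty]
      show k • x₀ = tT 0 • y₀
      rw [ht_zero, one_smul, hk1]
    | coe a =>
      rw [H31.mobius_sWeyl_some]
      by_cases ha : a = 0
      · rw [if_pos ha, ha]
        show k • tT 0 • y₀ = x₀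
        rw [ht_zero, one_smul, hk2]
      · rw [if_neg ha]
        obtain ⟨d, hd, hdb⟩ := hFD a ha
        have h1 : tT a • y₀ = d • z := by
          rw [hz, ← he1]
          show _ = d • tT 1 • y₀
          rw [hD_act d hd a hdb 1, mul_one]
        have hdinv : ∀ b, d⁻¹ * tT b * d⁻¹⁻¹ = tT (a⁻¹ * b) := by
          intro b
          have h2 : d * tT (a⁻¹ * b) * d⁻¹ = tT b := by
            rw [show d * tT (a⁻¹ * b) * d⁻¹ = tT (a * (a⁻¹ * b)) from hdb _,
              ← mul_assoc, mul_inv_cancel₀ ha, one_mul]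
          rw [← h2]; group
        show k • tT a • y₀ = tT (-1 / a) • y₀
        rw [h1, smul_smul, show k * d = d⁻¹ * k by rw [← hkD' d hd]; group, mul_smul, hk3, hz, ← he1]
        show d⁻¹ • tT 1 • y₀ = _
        rw [hD_act _ (inv_mem hd) _ hdinv 1, mul_one, CharTwo.neg_eq, one_div]
  refine ⟨F, instF, inferInstance, ?_, H31.nonempty_mulEquiv_psl_of_range_eq ρ hρinj
    (H31.range_eq_mobius_range ρ (fun b => ⟨_, htrans b⟩) (fun r hr => ?_) ⟨k, hweyl⟩ ?_)⟩
  · rw [Fintype.card_eq_nat_card]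
    exact Nat.card_congr (e.toEquiv.trans Additive.toMul)
  · obtain ⟨d, hd, hc⟩ := hFD (r ^ 2) (pow_ne_zero 2 hr)
    exact ⟨d, hdiag d hd r hr hc⟩
  · intro g hg
    have hgx : g • x₀ = x₀ := by
      have h1 : pe.symm (g • pe OnePoint.infty) = OnePoint.infty := hg
      rwa [Equiv.symm_apply_eq] at h1
    have hgy : g • y₀ ≠ x₀ := fun e' => hxy (MulAction.injective g (hgx.trans e'.symm))
    obtain ⟨t, ⟨ht, htp⟩, -⟩ := h.regular hxy.symm hgy
    have hd : t⁻¹ * g ∈ D := (hDmem _).2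
      ⟨by rw [mul_smul, hgx, hTx _ (inv_mem ht)], by rw [mul_smul, ← htp, inv_smul_smul]⟩
    obtain ⟨c, hc0, hc⟩ := hDF _ hd
    obtain ⟨r, hr⟩ := FiniteField.isSquare_of_char_two hF2 c
    have hr0 : r ≠ 0 := fun h0 => hc0 (by rw [hr, h0, mul_zero])
    have h1 : ρ t = H31.mobius (H31.sTrans (e.symm (Additive.ofMul ⟨t, ht⟩))) := by
      rw [← htrans]
      congr 1
      show t = ((e (e.symm (Additive.ofMul ⟨t, ht⟩))).toMul : G)
      rw [AddEquiv.apply_symm_apply]; rfl
    have h2 := hdiag _ hd r hr0 (fun b => by rw [pow_two, ← hr]; exact hc b)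
    refine ⟨H31.sTrans (e.symm (Additive.ofMul ⟨t, ht⟩)) * H31.sDiag r hr0, ?_⟩
    rw [map_mul, ← h1, ← h2, ← map_mul, mul_inv_cancel_left]

end Cfsg.Agent.H50
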