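import Cfsg.Agent.H28.BaerSuzuki
import Cfsg.Agent.H83.Offender
import Cfsg.Agent.H19.Cores
import Mathlib

/-!
Quadratic best offenders in groups without inverted elements of order 3 whose 2-subgroups are
abelian: such an offender lies in `O₂`.

If `⟨A, A^g⟩` is not a 2-group and minimal such, put `W = C_V(A)`, `W' = C_V(A^g)`, `I = W ∩ W'`.
An element of `A` fixing a point of `W' ∖ I` modulo `I` lies in a proper subgroup with each
conjugate of `A`, so is central. Counting then makes `a ↦ [u,a]` cover `W / I`, and a cycle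
`u → w → u` yields an element of order divisible by 3 inverted by an involution.
-/

set_option autoImplicit false

namespace Cfsg.Agent.H50.QuadraticOffender

open Cfsg.Agent.H83 (fixedSub delta delta_apply mem_fixedSub)

variable {H V : Type*} [Group H] [CommGroup V]

/-- The conjugate of a subgroup. -/
abbrev cj (A : Subgroup H) (x : H) : Subgroup H := A.map (MulAut.conj x).toMonoidHom

theorem cj_cj (A : Subgroup H) (x y : H) : cj (cj A x) y = cj A (y * x) := by
  unfold cj; rw [Subgroup.map_map]; congr 1; ext z; simp [mul_assoc]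

theorem cj_one (A : Subgroup H) : cj A 1 = A := by
  unfold cj; rw [map_one]; exact Subgroup.map_id A

theorem mem_cj {A : Subgroup H} {x h : H} : h ∈ cj A x ↔ ∃ a ∈ A, x * a * x⁻¹ = h := by
  simp [cj, Subgroup.mem_map]

/-- The fixed points of a conjugate. -/
theorem fixedSub_cj (φ : H →* MulAut V) (A : Subgroup H) (x : H) :
    fixedSub φ (cj A x : Set H) = (fixedSub φ (A : Set H)).map (φ x).toMonoidHom := by
  ext v
  constructor
  · intro hv
    refine ⟨φ x⁻¹ v, fun a ha => ?_, ?_⟩
    · have h := hv _ (mem_cj.2 ⟨a, ha, rfl⟩)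
      calc φ a (φ x⁻¹ v) = φ (x⁻¹ * (x * a * x⁻¹)) v := by
            rw [← MulAut.mul_apply, ← map_mul]; congr 2; group
        _ = φ x⁻¹ v := by rw [map_mul, MulAut.mul_apply, h]
    · show φ x (φ x⁻¹ v) = v
      rw [← MulAut.mul_apply, ← map_mul, mul_inv_cancel, map_one, MulAut.one_apply]
  · rintro ⟨w, hw, rfl⟩ h hh
    obtain ⟨a, ha, rfl⟩ := mem_cj.1 hh
    show φ (x * a * x⁻¹) (φ x w) = φ x w
    rw [← MulAut.mul_apply, ← map_mul, inv_mul_cancel_right, map_mul, MulAut.mul_apply, hw a ha]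

theorem delta_mul (φ : H →* MulAut V) (g h : H) (v : V) :
    delta φ (g * h) v = φ g (delta φ h v) * delta φ g v := by
  rw [delta_apply, delta_apply, delta_apply, map_mul, MulAut.mul_apply, map_div, div_mul_div_cancel]

/-- The elements moving `v` only inside `J`, for `J` fixed by all of `H`. -/
def stabMod (φ : H →* MulAut V) (J : Subgroup V) (hJ : J ≤ fixedSub φ (Set.univ : Set H)) (v : V) :
    Subgroup H where
  carrier := {h | delta φ h v ∈ J}
  one_mem' := by
    show delta φ 1 v ∈ J
    rw [delta_apply, map_one, MulAut.one_apply, div_self']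
    exact J.one_mem
  mul_mem' := fun {g h} hg hh => by
    show delta φ (g * h) v ∈ J
    rw [delta_mul, hJ hh g trivial]
    exact J.mul_mem hh hg
  inv_mem' := fun {h} hh => by
    show delta φ h⁻¹ v ∈ J
    have e := delta_mul φ h⁻¹ h v
    rw [inv_mul_cancel, hJ hh h⁻¹ trivial, delta_apply φ 1, map_one, MulAut.one_apply, div_self'] at e
    rw [eq_inv_of_mul_eq_one_right e.symm]
    exact J.inv_mem hh

theorem mem_stabMod {φ : H →* MulAut V} {J : Subgroup V}
    {hJ : J ≤ fixedSub φ (Set.univ : Set H)} {v : V} {h : H} :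
    h ∈ stabMod φ J hJ v ↔ delta φ h v ∈ J := Iff.rfl

/-- The product formula in a commutative group. -/
theorem card_sup_mul_card_inf (X Y : Subgroup V) :
    Nat.card (X ⊔ Y : Subgroup V) * Nat.card (X ⊓ Y : Subgroup V) = Nat.card X * Nat.card Y := by
  have h1 := Subgroup.relIndex_mul_relIndex (⊥ : Subgroup V) X (X ⊔ Y) bot_le le_sup_left
  have h2 := Subgroup.relIndex_mul_relIndex (⊥ : Subgroup V) (X ⊓ Y) Y bot_le inf_le_right
  rw [Subgroup.relIndex_bot_left, Subgroup.relIndex_bot_left, Subgroup.relIndex_sup_left] at h1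
  rw [Subgroup.relIndex_bot_left, Subgroup.relIndex_bot_left, Subgroup.inf_relIndex_right] at h2
  rw [← h1, ← h2]; ring

/-- The minimal situation: `H = ⟨A, A^g⟩` is not a 2-group but proper joins of two conjugates are. -/
structure Setup (φ : H →* MulAut V) (A : Subgroup H) (g : H) : Prop where
  inj : Function.Injective φ
  sq : ∀ v : V, v * v = 1
  abelian : ∀ Q : Subgroup H, IsPGroup 2 Q → ∀ x ∈ Q, ∀ y ∈ Q, x * y = y * x
  invol : ∀ a ∈ A, a * a = 1
  quad : ∀ a ∈ A, ∀ v : V, delta φ a v ∈ fixedSub φ (A : Set H)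
  best : ∀ B ≤ A, Nat.card B * Nat.card (fixedSub φ (B : Set H)) ≤
    Nat.card A * Nat.card (fixedSub φ (A : Set H))
  gen : A ⊔ cj A g = ⊤
  minimal : ∀ x y : H, cj A x ⊔ cj A y ≠ ⊤ → IsPGroup 2 (cj A x ⊔ cj A y : Subgroup H)
  notTwo : ¬ IsPGroup 2 H

namespace Setup

variable {φ : H →* MulAut V} {A : Subgroup H} {g : H}

/-- The roles of `A` and `A^g` may be exchanged. -/
theorem swap (s : Setup φ A g) : Setup φ (cj A g) g⁻¹ where
  inj := s.inj
  sq := s.sq
  abelian := s.abelian
  invol := fun a ha => by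
    obtain ⟨b, hb, rfl⟩ := mem_cj.1 ha
    calc g * b * g⁻¹ * (g * b * g⁻¹) = g * (b * b) * g⁻¹ := by group
      _ = 1 := by rw [s.invol b hb]; group
  quad := fun a ha v => by
    obtain ⟨b, hb, rfl⟩ := mem_cj.1 ha
    rw [fixedSub_cj]
    refine ⟨delta φ b (φ g⁻¹ v), s.quad b hb _, ?_⟩
    show φ g (delta φ b (φ g⁻¹ v)) = _
    rw [delta_apply, delta_apply, map_div, ← MulAut.mul_apply, ← map_mul, ← MulAut.mul_apply,
      ← map_mul, ← MulAut.mul_apply, ← map_mul, mul_inv_cancel, map_one, MulAut.one_apply]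
  best := fun B hB => by
    have hBA : cj B g⁻¹ ≤ A := by
      refine (Subgroup.map_mono hB).trans ?_
      rw [show (cj A g).map (MulAut.conj g⁻¹).toMonoidHom = cj A (g⁻¹ * g) from cj_cj A g g⁻¹,
        inv_mul_cancel, cj_one]
    have h := s.best _ hBA
    rw [fixedSub_cj, Subgroup.card_map_of_injective (f := (φ g⁻¹).toMonoidHom) (φ g⁻¹).injective,
      Subgroup.card_map_of_injective (f := (MulAut.conj g⁻¹).toMonoidHom)
        (MulAut.conj g⁻¹).injective] at h
    rwa [fixedSub_cj φ A g, Subgroup.card_map_of_injective (f := (φ g).toMonoidHom) (φ g).injective,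
      Subgroup.card_map_of_injective (f := (MulAut.conj g).toMonoidHom) (MulAut.conj g).injective]
  gen := by rw [cj_cj, inv_mul_cancel, cj_one, sup_comm]; exact s.gen
  minimal := fun x y => by rw [cj_cj, cj_cj]; exact s.minimal _ _
  notTwo := s.notTwo

/-- The points fixed by `A` and `A^g` are fixed by everything. -/
theorem inf_fixed_eq (s : Setup φ A g) :
    fixedSub φ (A : Set H) ⊓ fixedSub φ (cj A g : Set H) = fixedSub φ (Set.univ : Set H) := by
  refine le_antisymm (fun v hv h _ => ?_) (le_inf (fun v hv h _ => hv h trivial) fun v hv h _ => hv h trivial)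
  have hle : A ⊔ cj A g ≤ stabMod φ ⊥ bot_le v := by
    refine sup_le (fun a ha => ?_) (fun a ha => ?_)
    · rw [mem_stabMod, Subgroup.mem_bot, delta_apply, hv.1 a ha, div_self']
    · rw [mem_stabMod, Subgroup.mem_bot, delta_apply, hv.2 a ha, div_self']
  have := hle (s.gen.symm ▸ Subgroup.mem_top h)
  rwa [mem_stabMod, Subgroup.mem_bot, delta_apply, div_eq_one] at this

variable [Finite H]

/-- A conjugate of `A` inside a proper subgroup lies in a normal 2-subgroup of it. -/
theorem commute_of_proper (s : Setup φ A g) {K : Subgroup H} (hK : K ≠ ⊤) {x a : H}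
    (hxK : cj A x ≤ K) (haK : a ∈ K) (ha : a ∈ A) {b : H} (hb : b ∈ cj A x) : a * b = b * a := by
  classical
  haveI : Fact (Nat.Prime 2) := ⟨Nat.prime_two⟩
  let D : Set (Subgroup K) := {Y | ∃ y, Y.map K.subtype = cj A y}
  have hD : ∀ Y ∈ D, ∀ k : K, Y.map (MulAut.conj k).toMonoidHom ∈ D := by
    rintro Y ⟨y, hy⟩ k
    refine ⟨(k : H) * y, ?_⟩
    rw [← cj_cj, ← hy, Subgroup.map_map, cj, Subgroup.map_map]
    rfl
  have hpair : ∀ Y ∈ D, ∀ Z ∈ D, IsPGroup 2 ↥(Y ⊔ Z) := by
    rintro Y ⟨y, hy⟩ Z ⟨z, hz⟩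
    have hle : cj A y ⊔ cj A z ≤ K := by
      rw [← hy, ← hz]; exact sup_le (Subgroup.map_subtype_le _) (Subgroup.map_subtype_le _)
    have h := s.minimal y z fun e => hK (top_le_iff.1 (e ▸ hle))
    rw [← hy, ← hz, ← Subgroup.map_sup] at h
    exact h.of_equiv ((Y ⊔ Z).equivMapOfInjective _ K.subtype_injective).symm
  have hmem : (cj A x).subgroupOf K ∈ D :=
    ⟨x, by rw [Subgroup.subgroupOf_map_subtype, inf_eq_left.2 hxK]⟩
  have hN : IsPGroup 2 ↥(sSup D) := H28.isPGroup_sSup_of_pairwise D hD hpair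
  haveI : (sSup D).Normal := ⟨fun n hn k => by
    have : (sSup D).map (MulAut.conj k).toMonoidHom ≤ sSup D := by
      rw [Subgroup.map_le_iff_le_comap]
      exact sSup_le fun Y hY => Subgroup.map_le_iff_le_comap.mp (le_sSup (hD Y hY k))
    exact this ⟨n, hn, rfl⟩⟩
  have hQ : IsPGroup 2 ↥(sSup D ⊔ Subgroup.zpowers (⟨a, haK⟩ : K)) := by
    refine IsPGroup.to_sup_of_normal_left hN (IsPGroup.of_card_dvd_pow (n := 1) ?_)
    rw [Nat.card_zpowers, pow_one]
    refine orderOf_dvd_of_pow_eq_one (Subtype.ext ?_)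
    rw [SubmonoidClass.coe_pow, pow_two]
    exact s.invol a ha
  exact s.abelian _ (hQ.map K.subtype) a
    ⟨⟨a, haK⟩, Subgroup.mem_sup_right (Subgroup.mem_zpowers _), rfl⟩ b
    ⟨⟨b, hxK hb⟩, Subgroup.mem_sup_left (le_sSup hmem (Subgroup.mem_subgroupOf.2 hb)), rfl⟩

/-- If all of `H` moves a fixed point of a conjugate only inside `I`, the point lies in `I`. -/
theorem mem_univ_fixed (s : Setup φ A g) {v : V} {x : H}
    (hv : v ∈ fixedSub φ (cj A x : Set H))
    (hall : ∀ h, delta φ h v ∈ fixedSub φ (Set.univ : Set H)) :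
    v ∈ fixedSub φ (Set.univ : Set H) := by
  let f : H →* V :=
    { toFun := fun h => delta φ h v
      map_one' := by rw [delta_apply, map_one, MulAut.one_apply, div_self']
      map_mul' := fun h h' => by
        show delta φ (h * h') v = _
        rw [delta_mul, hall h' h trivial, mul_comm] }
  have hA : ∀ a ∈ A, f a = 1 := fun a ha => by
    have h1 : f (x * a * x⁻¹) = 1 := by
      show delta φ _ v = 1
      rw [delta_apply, hv _ (mem_cj.2 ⟨a, ha, rfl⟩), div_self']
    rwa [map_mul, map_mul, mul_comm (f x), map_inv, mul_inv_cancel_right] at h1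
  have hle : A ⊔ cj A g ≤ f.ker := by
    refine sup_le (fun a ha => hA a ha) fun h hh => ?_
    obtain ⟨a, ha, rfl⟩ := mem_cj.1 hh
    rw [MonoidHom.mem_ker, map_mul, map_mul, hA a ha, mul_one, map_inv, mul_inv_cancel]
  intro h _
  have h1 : delta φ h v = 1 := hle (s.gen.symm ▸ Subgroup.mem_top h)
  rwa [delta_apply, div_eq_one] at h1

/-- `W + W'` is invariant. -/
theorem sup_invariant (s : Setup φ A g) (h : H) :
    (fixedSub φ (A : Set H) ⊔ fixedSub φ (cj A g : Set H)).map (φ h).toMonoidHom ≤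
      fixedSub φ (A : Set H) ⊔ fixedSub φ (cj A g : Set H) := by
  set S := fixedSub φ (A : Set H) ⊔ fixedSub φ (cj A g : Set H)
  let St : Submonoid H :=
    { carrier := {h | S.map (φ h).toMonoidHom ≤ S}
      one_mem' := by
        show S.map (φ 1).toMonoidHom ≤ S
        rw [map_one]; exact (Subgroup.map_id S).le
      mul_mem' := fun {p q} hp hq => by
        show S.map (φ (p * q)).toMonoidHom ≤ S
        rintro _ ⟨v, hv, rfl⟩
        show φ (p * q) v ∈ S
        rw [map_mul, MulAut.mul_apply]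
        exact hp ⟨_, hq ⟨v, hv, rfl⟩, rfl⟩ }
  have hmove : ∀ a : H, (∀ v, delta φ a v ∈ S) → a ∈ St := by
    intro a ha
    rintro _ ⟨v, hv, rfl⟩
    show φ a v ∈ S
    have := S.mul_mem (ha v) hv
    rwa [delta_apply, div_mul_cancel] at this
  have hle : ∀ k ∈ A ⊔ cj A g, k ∈ St := by
    intro k hk
    rw [Subgroup.sup_eq_closure] at hk
    have : k ∈ Submonoid.closure ((A : Set H) ∪ (cj A g : Set H)) := by
      rw [← Subgroup.closure_toSubmonoid_of_finite]; exact hk
    refine Submonoid.closure_le.2 ?_ this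
    rintro a (ha | ha)
    · exact hmove a fun v => Subgroup.mem_sup_left (s.quad a ha v)
    · exact hmove a fun v => Subgroup.mem_sup_right (s.swap.quad a ha v)
  exact hle h (s.gen.symm ▸ Subgroup.mem_top h)

variable [Finite V]

/-- An element of `A` fixing a point of `(W + W') ∖ W` modulo `I` is central. -/
theorem central_of_fixed (s : Setup φ A g) {a : H} (ha : a ∈ A) {u : V}
    (huS : u ∈ fixedSub φ (A : Set H) ⊔ fixedSub φ (cj A g : Set H))
    (huW : u ∉ fixedSub φ (A : Set H))
    (hfix : delta φ a u ∈ fixedSub φ (Set.univ : Set H)) : a ∈ Subgroup.center H := by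
  classical
  set I := fixedSub φ (Set.univ : Set H) with hI
  set W := fixedSub φ (A : Set H) with hW
  set W' := fixedSub φ (cj A g : Set H) with hW'
  set U := (W ⊔ W') ⊓ I.comap (delta φ a) with hU
  have hWU : W < U := by
    refine lt_of_le_of_ne (le_inf le_sup_left fun w hw => ?_) fun e => huW (e ▸ ⟨huS, hfix⟩)
    show delta φ a w ∈ I
    rw [delta_apply, hw a ha, div_self']
    exact I.one_mem
  have hcW' : Nat.card W' = Nat.card W := by
    rw [hW', fixedSub_cj, Subgroup.card_map_of_injective (φ g).injective]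
  have hSI : Nat.card (W ⊔ W' : Subgroup V) * Nat.card I = Nat.card W * Nat.card W := by
    have := card_sup_mul_card_inf W W'
    rwa [hW, hW', s.inf_fixed_eq, ← hW, ← hW', hcW'] at this
  have hcomm : ∀ x, ∀ b ∈ cj A x, a * b = b * a := by
    intro x b hb
    set Wx := fixedSub φ (cj A x : Set H) with hWx
    have hWxS : Wx ≤ W ⊔ W' := by
      rw [hWx, fixedSub_cj]
      exact (Subgroup.map_mono le_sup_left).trans (s.sup_invariant x)
    have hcx : Nat.card Wx = Nat.card W := by
      rw [hWx, fixedSub_cj, Subgroup.card_map_of_injective (φ x).injective]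
    have h1 := card_sup_mul_card_inf U Wx
    have h2 : Nat.card (U ⊔ Wx : Subgroup V) ≤ Nat.card (W ⊔ W' : Subgroup V) :=
      Subgroup.card_le_of_le (sup_le inf_le_left hWxS)
    have h3 : Nat.card W < Nat.card U := lt_of_not_ge fun h => hWU.ne (Subgroup.eq_of_le_of_card_ge hWU.le h)
    have hlt : Nat.card I < Nat.card (U ⊓ Wx : Subgroup V) := by
      by_contra hle
      have : Nat.card U * Nat.card W ≤ Nat.card W * Nat.card W := by
        calc Nat.card U * Nat.card W = Nat.card (U ⊔ Wx : Subgroup V) * Nat.card (U ⊓ Wx : Subgroup V) := by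
              rw [h1, hcx]
          _ ≤ Nat.card (W ⊔ W' : Subgroup V) * Nat.card I := Nat.mul_le_mul h2 (not_lt.1 hle)
          _ = _ := hSI
      exact absurd (Nat.le_of_mul_le_mul_right this Nat.card_pos) (not_le.2 h3)
    obtain ⟨v, ⟨hvU, hvx⟩, hvI⟩ : ∃ v ∈ (U ⊓ Wx : Subgroup V), v ∉ I := by
      by_contra h
      push Not at h
      exact absurd (Subgroup.card_le_of_le h) (not_le.2 hlt)
    set K := stabMod φ I le_rfl v
    have hK : K ≠ ⊤ := fun e => hvI (s.mem_univ_fixed hvx fun h =>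
      mem_stabMod.1 (show h ∈ K from e ▸ Subgroup.mem_top h))
    refine s.commute_of_proper hK (x := x) (fun c hc => ?_) hvU.2 ha hb
    rw [mem_stabMod, delta_apply, hvx c hc, div_self']
    exact I.one_mem
  have hle : A ⊔ cj A g ≤ Subgroup.centralizer ({a} : Set H) := by
    refine sup_le (fun b hb => ?_) fun b hb => ?_ <;> rw [Subgroup.mem_centralizer_singleton_iff]
    · exact (hcomm 1 b (by rwa [cj_one])).symm
    · exact (hcomm g b hb).symm
  refine Subgroup.mem_center_iff.2 fun h => ?_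
  exact Subgroup.mem_centralizer_singleton_iff.1 (hle (s.gen.symm ▸ Subgroup.mem_top h))

/-- `W'` is not fixed by everything. -/
theorem exists_moved (s : Setup φ A g) :
    ∃ u ∈ fixedSub φ (cj A g : Set H), u ∉ fixedSub φ (A : Set H) := by
  by_contra h
  push Not at h
  apply s.notTwo
  set W := fixedSub φ (A : Set H)
  set W' := fixedSub φ (cj A g : Set H)
  have heq : W' = W := Subgroup.eq_of_le_of_card_ge h (by
    show Nat.card W ≤ Nat.card (fixedSub φ (cj A g : Set H))
    rw [fixedSub_cj, Subgroup.card_map_of_injective (φ g).injective])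
  have hWI : W = fixedSub φ (Set.univ : Set H) := by
    rw [← s.inf_fixed_eq]; exact (inf_eq_left.2 heq.ge).symm
  have hall : ∀ h v, delta φ h v ∈ fixedSub φ (Set.univ : Set H) := fun h v => by
    have hle : A ⊔ cj A g ≤ stabMod φ _ le_rfl v := by
      refine sup_le (fun a ha => ?_) fun a ha => ?_ <;> rw [mem_stabMod, ← hWI]
      · exact s.quad a ha v
      · exact heq ▸ s.swap.quad a ha v
    exact mem_stabMod.1 (hle (s.gen.symm ▸ Subgroup.mem_top h))
  intro x
  refine ⟨1, s.inj ?_⟩
  rw [map_one, pow_one, pow_two]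
  refine MulEquiv.ext fun v => div_eq_one.1 ?_
  show delta φ (x * x) v = 1
  rw [delta_mul, hall x v x trivial]
  exact s.sq _

/-- `a ↦ [u, a]` covers `W` modulo `I`. -/
theorem cover (s : Setup φ A g) {u : V} (huW' : u ∈ fixedSub φ (cj A g : Set H))
    (huW : u ∉ fixedSub φ (A : Set H)) {w : V} (hw : w ∈ fixedSub φ (A : Set H)) :
    ∃ a ∈ A, delta φ a u / w ∈ fixedSub φ (Set.univ : Set H) := by
  classical
  set I := fixedSub φ (Set.univ : Set H) with hI
  set W := fixedSub φ (A : Set H) with hW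
  set W' := fixedSub φ (cj A g : Set H) with hW'
  set B := A ⊓ Subgroup.center H with hB
  have hcW' : Nat.card W' = Nat.card W := by
    rw [hW', fixedSub_cj, Subgroup.card_map_of_injective (φ g).injective]
  have hBS : W ⊔ W' ≤ fixedSub φ (B : Set H) := by
    refine sup_le (fun v hv b hb => hv b hb.1) fun v hv b hb => ?_
    have : g * b * g⁻¹ = b := by
      rw [Subgroup.mem_center_iff.1 hb.2 g, mul_inv_cancel_right]
    exact hv b (mem_cj.2 ⟨b, hb.1, this⟩)
  have h1 : Nat.card B * Nat.card (W ⊔ W' : Subgroup V) ≤ Nat.card A * Nat.card W :=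
    (Nat.mul_le_mul_left _ (Subgroup.card_le_of_le hBS)).trans (s.best B inf_le_left)
  let θ : A →* V ⧸ I := MonoidHom.mk' (fun a => ((delta φ a u : V) : V ⧸ I)) fun a b => by
    show ((delta φ ((a : H) * b) u : V) : V ⧸ I) = _
    rw [delta_mul, s.quad b b.2 u a a.2, QuotientGroup.mk_mul, mul_comm]
  have hker : θ.ker ≤ B.subgroupOf A := fun a ha =>
    ⟨a.2, s.central_of_fixed a.2 (Subgroup.mem_sup_right huW') huW ((QuotientGroup.eq_one_iff _).1 ha)⟩
  have hkc : Nat.card θ.ker ≤ Nat.card B :=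
    (Subgroup.card_le_of_le hker).trans
      (Nat.card_congr (Subgroup.subgroupOfEquivOfLe inf_le_left).toEquiv).le
  have hAc : Nat.card θ.range * Nat.card θ.ker = Nat.card A := by
    rw [← Subgroup.index_ker, θ.ker.index_mul_card]
  have hrange : θ.range ≤ W.map (QuotientGroup.mk' I) := by
    rintro _ ⟨a, rfl⟩
    exact ⟨_, s.quad a a.2 u, rfl⟩
  have hWI : Nat.card (W.map (QuotientGroup.mk' I)) * Nat.card I = Nat.card W := by
    have hIW : I ≤ W := fun v hv b _ => hv b trivial
    have e : W.map (QuotientGroup.mk' I) = ((QuotientGroup.mk' I).comp W.subtype).range := by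
      rw [MonoidHom.range_comp, W.range_subtype]
    have e' : ((QuotientGroup.mk' I).comp W.subtype).ker = I.subgroupOf W := by
      rw [← MonoidHom.comap_ker, QuotientGroup.ker_mk']; rfl
    rw [e, ← Subgroup.index_ker, e', mul_comm]
    have h2 := Subgroup.relIndex_mul_relIndex (⊥ : Subgroup V) I W bot_le hIW
    rw [Subgroup.relIndex_bot_left, Subgroup.relIndex_bot_left] at h2
    exact h2
  have hSI : Nat.card (W ⊔ W' : Subgroup V) * Nat.card I = Nat.card W * Nat.card W := by
    have := card_sup_mul_card_inf W W'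
    rwa [hW, hW', s.inf_fixed_eq, ← hW, ← hW', hcW'] at this
  have hge : Nat.card (W.map (QuotientGroup.mk' I)) ≤ Nat.card θ.range := by
    have h2 : Nat.card B * (Nat.card W * Nat.card W) ≤ Nat.card A * Nat.card W * Nat.card I := by
      rw [← hSI, ← mul_assoc]; exact Nat.mul_le_mul_right _ h1
    rw [← hAc] at h2
    have h3 : Nat.card B * Nat.card W * Nat.card W ≤
        Nat.card θ.range * Nat.card B * Nat.card I * Nat.card W := by
      calc Nat.card B * Nat.card W * Nat.card W = Nat.card B * (Nat.card W * Nat.card W) := mul_assoc _ _ _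
        _ ≤ Nat.card θ.range * Nat.card θ.ker * Nat.card W * Nat.card I := h2
        _ ≤ Nat.card θ.range * Nat.card B * Nat.card W * Nat.card I := by gcongr
        _ = _ := by ring
    have h4 := Nat.le_of_mul_le_mul_right h3 Nat.card_pos
    rw [← hWI] at h4
    have h5 : Nat.card (W.map (QuotientGroup.mk' I)) * (Nat.card B * Nat.card I) ≤
        Nat.card θ.range * (Nat.card B * Nat.card I) := by
      calc _ = Nat.card B * (Nat.card (W.map (QuotientGroup.mk' I)) * Nat.card I) := by ring
        _ ≤ _ := h4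
        _ = _ := by ring
    exact Nat.le_of_mul_le_mul_right h5 (Nat.mul_pos Nat.card_pos Nat.card_pos)
  have heq : θ.range = W.map (QuotientGroup.mk' I) := Subgroup.eq_of_le_of_card_ge hrange hge
  obtain ⟨a, ha⟩ : QuotientGroup.mk' I w ∈ θ.range := heq ▸ ⟨w, hw, rfl⟩
  exact ⟨a, a.2, QuotientGroup.eq_iff_div_mem.1 ha⟩

/-- The minimal situation has an element of order 3 inverted by an involution. -/
theorem exists_inverted (s : Setup φ A g) :
    ∃ y a : H, y ^ 3 = 1 ∧ y ≠ 1 ∧ a * a = 1 ∧ a * y * a = y⁻¹ := by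
  classical
  set I := fixedSub φ (Set.univ : Set H) with hI
  obtain ⟨u, hu', huW⟩ := s.exists_moved
  obtain ⟨w, hw, hw'⟩ := s.swap.exists_moved
  rw [cj_cj, inv_mul_cancel, cj_one] at hw
  obtain ⟨a, ha, hau⟩ := s.cover hu' huW hw
  set w1 := delta φ a u with hw1
  have hw1W : w1 ∈ fixedSub φ (A : Set H) := s.quad a ha u
  have hw1' : w1 ∉ fixedSub φ (cj A g : Set H) := by
    intro h
    refine hw' ?_
    have hI' : w1 / w ∈ fixedSub φ (cj A g : Set H) := fun c _ => hau c trivial
    have := Subgroup.div_mem _ h hI'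
    rwa [div_div_cancel] at this
  have hw1'' : w1 ∈ fixedSub φ (cj (cj A g) g⁻¹ : Set H) := by
    rw [cj_cj, inv_mul_cancel, cj_one]; exact hw1W
  obtain ⟨b, hb, hbw⟩ := s.swap.cover hw1'' hw1' hu'
  set u1 := delta φ b w1 with hu1
  have hu1' : u1 ∈ fixedSub φ (cj A g : Set H) := s.swap.quad b hb w1
  have hau1 : φ a u1 = u1 * w1 := by
    have h1 : φ a (u1 / u) = u1 / u := hbw a trivial
    have h2 : φ a u = u * w1 := by rw [hw1, delta_apply, mul_div_cancel]
    rw [map_div, h2, div_eq_iff_eq_mul, div_mul_eq_mul_div, ← mul_assoc, mul_comm u1 u, mul_assoc,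
      mul_div_assoc, mul_comm u, div_mul_cancel] at h1
    exact h1
  have hbu1 : φ b u1 = u1 := hu1' b hb
  have haw1 : φ a w1 = w1 := hw1W a ha
  have hbw1 : φ b w1 = w1 * u1 := by rw [hu1, delta_apply, mul_div_cancel]
  set x := a * b with hx
  have hxu : φ x u1 = u1 * w1 := by rw [hx, map_mul, MulAut.mul_apply, hbu1, hau1]
  have hxw : φ x w1 = u1 := by
    rw [hx, map_mul, MulAut.mul_apply, hbw1, map_mul, haw1, hau1, mul_comm u1, ← mul_assoc, s.sq,
      one_mul]
  have hx2 : φ (x ^ 2) u1 = w1 := by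
    rw [pow_two, map_mul, MulAut.mul_apply, hxu, map_mul, hxu, hxw, mul_comm u1, mul_assoc, s.sq, mul_one]
  have hx3 : φ (x ^ 3) u1 = u1 := by
    rw [pow_succ', map_mul, MulAut.mul_apply, hx2, hxw]
  have hne1 : φ x u1 ≠ u1 := fun h => hw1' (by
    rw [hxu, mul_eq_left] at h
    rw [h]; exact one_mem _)
  have hne2 : φ (x ^ 2) u1 ≠ u1 := fun h => hw1' (by rw [hx2] at h; rw [h]; exact hu1')
  have hdvd : 3 ∣ orderOf x := by
    have key : ∀ q r : ℕ, φ (x ^ (3 * q + r)) u1 = φ (x ^ r) u1 := by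
      intro q r
      induction q with
      | zero => simp
      | succ q ih =>
        rw [show 3 * (q + 1) + r = (3 * q + r) + 3 by ring, pow_add, map_mul, MulAut.mul_apply, hx3, ih]
    have h1 := key (orderOf x / 3) (orderOf x % 3)
    rw [Nat.div_add_mod, pow_orderOf_eq_one, map_one, MulAut.one_apply] at h1
    have := Nat.mod_lt (orderOf x) (show 0 < 3 by norm_num)
    rcases h : orderOf x % 3 with _ | _ | _ | k
    · exact Nat.dvd_of_mod_eq_zero h
    · rw [h, pow_one] at h1; exact absurd h1.symm hne1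
    · rw [h] at h1; exact absurd h1.symm hne2
    · omega
  obtain ⟨k, hk⟩ := hdvd
  have hinv : a * x * a = x⁻¹ := by
    have hb2 : b⁻¹ = b := inv_eq_of_mul_eq_one_right (s.swap.invol b hb)
    have ha2 : a⁻¹ = a := inv_eq_of_mul_eq_one_right (s.invol a ha)
    rw [hx, mul_inv_rev, hb2, ha2, ← mul_assoc, s.invol a ha, one_mul]
  refine ⟨x ^ k, a, by rw [← pow_mul, mul_comm, ← hk, pow_orderOf_eq_one], fun h => ?_, s.invol a ha, ?_⟩
  · have h1 := orderOf_dvd_of_pow_eq_one h
    have h2 := orderOf_pos x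
    have h3 := Nat.le_of_dvd (by omega) h1
    omega
  · have hc : a * x ^ k * a⁻¹ = (a * x * a⁻¹) ^ k := conj_pow.symm
    rw [inv_eq_of_mul_eq_one_right (s.invol a ha)] at hc
    rw [hc, hinv, inv_pow]

end Setup

/-- A quadratic best offender lies in `O₂` when 2-subgroups are abelian and no element of order 3 is
inverted by an involution. -/
theorem offender_le_pCore [Finite H] [Finite V] (φ : H →* MulAut V) (hφ : Function.Injective φ)
    (hV : ∀ v : V, v * v = 1)
    (hab : ∀ Q : Subgroup H, IsPGroup 2 Q → ∀ x ∈ Q, ∀ y ∈ Q, x * y = y * x)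
    (h3 : ∀ y a : H, y ^ 3 = 1 → a * a = 1 → a * y * a = y⁻¹ → y = 1)
    (A : Subgroup H) (hA2 : ∀ a ∈ A, a * a = 1)
    (hquad : ∀ a ∈ A, ∀ v : V, delta φ a v ∈ fixedSub φ (A : Set H))
    (hbest : ∀ B ≤ A, Nat.card B * Nat.card (fixedSub φ (B : Set H)) ≤
      Nat.card A * Nat.card (fixedSub φ (A : Set H))) :
    A ≤ Cfsg.pCore 2 H := by
  classical
  haveI : Fact (Nat.Prime 2) := ⟨Nat.prime_two⟩
  by_contra hA
  have hA2' : IsPGroup 2 A := fun a => ⟨1, Subtype.ext (by
    rw [SubmonoidClass.coe_pow, pow_one, sq]; exact hA2 a a.2)⟩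
  obtain ⟨g₀, hg₀⟩ : ∃ g, ¬ IsPGroup 2 ↥(A ⊔ cj A g) := by
    by_contra h
    push Not at h
    obtain ⟨N, hN, hN2, hAN⟩ := H28.baer_suzuki_subgroup (p := 2) A h
    exact hA (hAN.trans (H19.le_pCore hN hN2))
  obtain ⟨g, hg, hgmin⟩ := Set.exists_min_image {g | ¬ IsPGroup 2 ↥(A ⊔ cj A g)}
    (fun g => Nat.card ↥(A ⊔ cj A g)) (Set.toFinite _) ⟨g₀, hg₀⟩
  set L := A ⊔ cj A g with hL
  set AL := A.subgroupOf L with hAL
  have hALm : AL.map L.subtype = A := by
    rw [hAL, Subgroup.subgroupOf_map_subtype, inf_eq_left.2 le_sup_left]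
  have hcjL : ∀ x : L, (cj AL x).map L.subtype = cj A (x : H) := by
    intro x
    rw [← hALm, cj, cj, Subgroup.map_map, Subgroup.map_map]
    rfl
  obtain ⟨h, hh⟩ : ∃ h : L, ¬ IsPGroup 2 ↥(AL ⊔ cj AL h) := by
    by_contra h
    push Not at h
    obtain ⟨N, hN, hN2, hAN⟩ := H28.baer_suzuki_subgroup (p := 2) AL h
    refine hg ?_
    have hg2 : IsPGroup 2 ((cj A g).subgroupOf L) :=
      (hA2'.map _).of_equiv (Subgroup.subgroupOfEquivOfLe (le_sup_right : cj A g ≤ L)).symm
    have hle : (⊤ : Subgroup L) ≤ N ⊔ (cj A g).subgroupOf L := by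
      intro z _
      have h1 : (z : H) ∈ (N ⊔ (cj A g).subgroupOf L).map L.subtype := by
        refine (sup_le ?_ ?_ : L ≤ _) z.2
        · rw [← hALm]; exact Subgroup.map_mono (hAN.trans le_sup_left)
        · conv_lhs => rw [← inf_eq_left.2 (le_sup_right : cj A g ≤ L), ← Subgroup.subgroupOf_map_subtype]
          exact Subgroup.map_mono le_sup_right
      obtain ⟨y, hy, e⟩ := h1
      exact L.subtype_injective e ▸ hy
    exact ((hN2.to_sup_of_normal_left hg2).to_le hle).of_equiv Subgroup.topEquiv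
  have hgen : AL ⊔ cj AL h = ⊤ := by
    have hsub : A ⊔ cj A (h : H) ≤ L :=
      sup_le le_sup_left (by rw [← hcjL]; exact Subgroup.map_subtype_le _)
    have hm : (AL ⊔ cj AL h).map L.subtype = A ⊔ cj A (h : H) := by
      rw [Subgroup.map_sup, hALm, hcjL]
    have hnp : ¬ IsPGroup 2 ↥(A ⊔ cj A (h : H)) := fun h' =>
      hh (by rw [← hm] at h'; exact h'.of_equiv ((AL ⊔ cj AL h).equivMapOfInjective _ L.subtype_injective).symm)
    have heq : A ⊔ cj A (h : H) = L := Subgroup.eq_of_le_of_card_ge hsub (hgmin _ hnp)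
    rw [eq_top_iff]
    intro z _
    have : (z : H) ∈ (AL ⊔ cj AL h).map L.subtype := by rw [hm, heq]; exact z.2
    obtain ⟨y, hy, e⟩ := this
    exact L.subtype_injective e ▸ hy
  have hfix : ∀ B : Subgroup L,
      fixedSub (φ.comp L.subtype) (B : Set L) = fixedSub φ (B.map L.subtype : Set H) := by
    intro B; ext v
    constructor
    · rintro hv _ ⟨b, hb, rfl⟩; exact hv b hb
    · intro hv b hb; exact hv _ ⟨b, hb, rfl⟩
  have hcard : ∀ B : Subgroup L, Nat.card (B.map L.subtype) = Nat.card B := fun B =>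
    Subgroup.card_map_of_injective L.subtype_injective
  have s : Setup (φ.comp L.subtype) AL h :=
    { inj := hφ.comp L.subtype_injective
      sq := hV
      abelian := fun Q hQ x hx y hy =>
        Subtype.ext (hab _ (hQ.map L.subtype) x ⟨x, hx, rfl⟩ y ⟨y, hy, rfl⟩)
      invol := fun a ha => Subtype.ext (hA2 a (Subgroup.mem_subgroupOf.1 ha))
      quad := fun a ha v => by
        rw [hfix, hALm]; exact hquad a (Subgroup.mem_subgroupOf.1 ha) v
      best := fun B hB => by
        have := hbest (B.map L.subtype) (hALm ▸ Subgroup.map_mono hB)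
        rw [hfix, hfix, hALm, ← hcard B, ← hcard AL, hALm]
        exact this
      gen := hgen
      minimal := fun x y hne => by
        by_contra hc
        set K := cj AL x ⊔ cj AL y with hK
        have hm : K.map L.subtype = cj A (x : H) ⊔ cj A (y : H) := by
          rw [hK, Subgroup.map_sup, hcjL, hcjL]
        set z := (x : H)⁻¹ * y
        have hz : cj A (x : H) ⊔ cj A (y : H) = cj (A ⊔ cj A z) (x : H) := by
          rw [cj, cj, cj, Subgroup.map_sup, ← cj, ← cj, ← cj, cj_cj, mul_inv_cancel_left]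
        have hzn : ¬ IsPGroup 2 ↥(A ⊔ cj A z) := fun h' => hc (by
          have h'' : IsPGroup 2 ↥(K.map L.subtype) := by rw [hm, hz]; exact h'.map _
          exact h''.of_equiv (K.equivMapOfInjective _ L.subtype_injective).symm)
        have h1 := hgmin z hzn
        have h2 : Nat.card (K.map L.subtype) = Nat.card ↥(A ⊔ cj A z) := by
          rw [hm, hz]; exact Subgroup.card_map_of_injective (MulAut.conj (x : H)).injective
        rw [hcard] at h2
        refine hne (Subgroup.eq_top_of_le_card K ?_)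
        rw [h2]; exact h1
      notTwo := hg }
  obtain ⟨y, a, hy3, hy1, ha2, hay⟩ := s.exists_inverted
  exact hy1 (Subtype.ext (h3 y a (congrArg Subtype.val hy3) (congrArg Subtype.val ha2)
    (congrArg Subtype.val hay)))

end Cfsg.Agent.H50.QuadraticOffender
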