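import Cfsg.Agent.H50.ClassTwoThompson
import Cfsg.Agent.H50.QuadraticOffender
import Cfsg.Agent.H34.Conj

/-!
Thompson factorisation for 2-constrained groups without `S₄` section whose Sylow 2-subgroup has class two.
-/

set_option autoImplicit false
open scoped commutatorElement IsMulCommutative

namespace Cfsg.Agent.H50.ConstrainedThompson

open Subgroup
open Cfsg.Agent.H50.ClassTwoThompson (isPGroup_two_of_odd_trivial)

variable {G : Type*} [Group G] [Finite G]

/-- In the situation with `C(O₂) ≤ O₂`, an elementary abelian subgroup of largest order of a class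
two Sylow subgroup lies in `O₂`. -/
theorem maxElementary_le_pCore
    (hchar : centralizer (Cfsg.pCore 2 G : Set G) ≤ Cfsg.pCore 2 G)
    (hS4 : ¬ Cfsg.Involves (Equiv.Perm (Fin 4)) G) (S : Sylow 2 G)
    (hcl : ⁅⁅(S : Subgroup G), (S : Subgroup G)⁆, (S : Subgroup G)⁆ = ⊥)
    {A : Subgroup G} (hAS : A ≤ (S : Subgroup G)) (hA : Cfsg.IsElementaryAbelian 2 A)
    (hmax : ∀ B ≤ (S : Subgroup G), Cfsg.IsElementaryAbelian 2 B → Nat.card B ≤ Nat.card A) :
    A ≤ Cfsg.pCore 2 G := by
  classical
  haveI : Fact (Nat.Prime 2) := ⟨Nat.prime_two⟩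
  have h3 := H83.not_involves_s3_of_char_two hchar hS4
  set P := Cfsg.pCore 2 G with hPdef
  haveI hPn : P.Normal := H19.pCore_normal 2 G
  have hP2 : IsPGroup 2 P := H19.pCore_isPGroup 2
  have hPS : P ≤ (S : Subgroup G) := H19.pCore_le_sylow S
  set Z := P ⊓ centralizer (P : Set G) with hZdef
  haveI hZn : Z.Normal := Subgroup.normal_inf_normal _ _
  haveI hZc : IsMulCommutative Z := H34.isMulCommutative_inf_centralizer P
  set U := Cfsg.omegaOne 2 Z with hUdef
  have hUea : Cfsg.IsElementaryAbelian 2 U := H34.omegaOne_isElementaryAbelian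
  have hUZ : U ≤ Z := H34.omegaOne_le Z
  haveI hUn : U.Normal := ⟨fun x hx g => by
    have h := H34.map_omegaOne (p := 2) (MulAut.conj g).toMonoidHom (MulAut.conj g).injective Z
    have hmem : g * x * g⁻¹ ∈ U.map (MulAut.conj g).toMonoidHom := ⟨x, hx, rfl⟩
    rw [hUdef, h] at hmem
    refine H34.omegaOne_mono ?_ hmem
    rintro _ ⟨z, hz, rfl⟩
    exact hZn.conj_mem z hz g⟩
  haveI hUc : IsMulCommutative U := hUea.1
  -- `A` stabilises `P / Z`
  set N := Subgroup.normalClosure (A : Set G) with hNdef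
  have hAN : A ≤ N := fun a ha => Subgroup.subset_normalClosure ha
  haveI : (P.map (QuotientGroup.mk' Z)).Normal := hPn.map _ (QuotientGroup.mk'_surjective Z)
  have hNK : N ≤ (centralizer (P.map (QuotientGroup.mk' Z) : Set (G ⧸ Z))).comap
      (QuotientGroup.mk' Z) := by
    refine Subgroup.normalClosure_le_normal ?_
    intro a ha
    rw [SetLike.mem_coe, Subgroup.mem_comap, mem_centralizer_iff]
    rintro _ ⟨u, hu, rfl⟩
    refine commutatorElement_eq_one_iff_mul_comm.1 ?_
    rw [← map_commutatorElement, ← MonoidHom.mem_ker, QuotientGroup.ker_mk']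
    refine ⟨?_, ?_⟩
    · have h1 : a * u⁻¹ * a⁻¹ ∈ P := hPn.conj_mem _ (inv_mem hu) a
      rw [commutatorElement_def, show u * a * u⁻¹ * a⁻¹ = u * (a * u⁻¹ * a⁻¹) by group]
      exact mul_mem hu h1
    · refine centralizer_le (show (P : Set G) ⊆ (S : Subgroup G) from hPS) ?_
      refine (Subgroup.commutator_eq_bot_iff_le_centralizer.1 hcl) ?_
      exact Subgroup.commutator_mem_commutator (hPS hu) (hAS ha)
  -- elements of odd order of `N` act faithfully on `U`
  set C := centralizer (U : Set G) with hCdef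
  have hM2 : IsPGroup 2 (N ⊓ C : Subgroup G) := isPGroup_two_of_odd_trivial fun y hy hyodd => by
    have hcopZ : (Nat.card (Subgroup.zpowers y)).Coprime (Nat.card Z) := by
      obtain ⟨k, hk⟩ := IsPGroup.iff_card.1 (hP2.to_le (inf_le_left : Z ≤ P))
      rw [hk, Nat.card_zpowers]
      exact (Nat.coprime_two_right.2 hyodd).pow_right k
    have hyZ : Subgroup.zpowers y ≤ centralizer (Z : Set G) := by
      refine H20.le_centralizer_of_fixes_prime_order
        (le_top.trans_eq (Subgroup.normalizer_eq_top (H := Z)).symm) hcopZ fun v hv hvp a ha => ?_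
      obtain ⟨k, hk⟩ := (IsPGroup.iff_orderOf.1 hP2) ⟨v, hv.1⟩
      rw [← Subgroup.orderOf_coe] at hk
      have hk2 : orderOf v = 2 := by
        rw [hk] at hvp ⊢
        rcases k with _ | _ | k
        · simp [Nat.not_prime_one] at hvp
        · rfl
        · exact absurd hvp (Nat.Prime.not_prime_pow (by omega))
      have hvU : v ∈ U := H34.mem_omegaOne hv (hk2 ▸ pow_orderOf_eq_one v)
      have : a ∈ C := (Subgroup.zpowers_le.2 hy.2) ha
      exact ((mem_centralizer_iff.1 this) v hvU).symm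
    have hyP : Subgroup.zpowers y ≤ centralizer (P : Set G) := by
      refine H53.le_centralizer_of_two_step hcopZ ?_ ?_
      · refine Subgroup.commutator_le.2 fun u hu g hg => ?_
        have h1 := (Subgroup.zpowers_le.2 (hNK hy.1)) hg
        rw [Subgroup.mem_comap, mem_centralizer_iff] at h1
        rw [← QuotientGroup.ker_mk' Z, MonoidHom.mem_ker, map_commutatorElement]
        exact commutatorElement_eq_one_iff_mul_comm.2 (h1 _ ⟨u, hu, rfl⟩)
      · rw [Subgroup.commutator_comm]
        exact Subgroup.commutator_eq_bot_iff_le_centralizer.2 hyZ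
    have h1 : y ∈ P := hchar (hyP (Subgroup.mem_zpowers y))
    obtain ⟨k, hk⟩ := IsPGroup.iff_card.1 hP2
    have h2 := Subgroup.orderOf_dvd_natCard P h1
    rw [hk] at h2
    exact orderOf_eq_one_iff.1
      (Nat.eq_one_of_dvd_coprimes ((Nat.coprime_two_right.2 hyodd).pow_right k) dvd_rfl h2)
  have hMP : N ⊓ C ≤ P := H19.le_pCore (Subgroup.normal_inf_normal _ _) hM2
  -- the image in the automorphism group of `U`
  let φ : N →* MulAut U := (MulAut.conjNormal (H := U)).comp N.subtype
  have hker : ∀ n : N, φ n = 1 ↔ (n : G) ∈ C := by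
    intro n
    constructor
    · intro h
      refine mem_centralizer_iff.2 fun u hu => ?_
      have := congrArg (fun f : MulAut U => ((f ⟨u, hu⟩ : U) : G)) h
      simp only [φ, MonoidHom.coe_comp, Function.comp_apply, Subgroup.coe_subtype,
        MulAut.conjNormal_apply, MulAut.one_apply] at this
      calc u * (n : G) = (n : G) * u * (n : G)⁻¹ * n := by rw [this]
        _ = n * u := by group
    · intro h
      refine MulEquiv.ext fun u => Subtype.ext ?_
      simp only [φ, MonoidHom.coe_comp, Function.comp_apply, Subgroup.coe_subtype,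
        MulAut.conjNormal_apply, MulAut.one_apply]
      rw [← mem_centralizer_iff.1 h u u.2, mul_inv_cancel_right]
  have hO : Cfsg.pCore 2 φ.range = ⊥ := by
    have hkP : IsPGroup 2 φ.rangeRestrict.ker := by
      rw [φ.ker_rangeRestrict]
      intro n
      obtain ⟨k, hk⟩ := hM2 ⟨(n : N), (n : N).2, (hker n).1 n.2⟩
      refine ⟨k, Subtype.ext (Subtype.ext ?_)⟩
      have h := congrArg Subtype.val hk
      simp only [SubmonoidClass.coe_pow, OneMemClass.coe_one] at h ⊢
      exact h
    have hR2 := (H19.pCore_isPGroup (G := φ.range) 2).comap_of_ker_isPGroup φ.rangeRestrict hkP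
    haveI := H19.pCore_normal 2 φ.range
    have hRP := H19.map_pCore_le (p := 2) N
    rw [eq_bot_iff]
    intro z hz
    obtain ⟨n, rfl⟩ := φ.rangeRestrict_surjective z
    have hn : n ∈ Cfsg.pCore 2 N :=
      H19.le_pCore (Subgroup.Normal.comap inferInstance _) hR2 hz
    have hnP : (n : G) ∈ P := hRP ⟨n, hn, rfl⟩
    have hnC : (n : G) ∈ C := by
      refine mem_centralizer_iff.2 fun u hu => ?_
      exact ((mem_centralizer_iff.1 (hUZ hu).2) n hnP).symm
    exact Subtype.ext ((hker n).2 hnC)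
  let ψ : A →* φ.range := φ.rangeRestrict.comp (Subgroup.inclusion hAN)
  have h3' : ¬ Cfsg.Involves (Equiv.Perm (Fin 3)) φ.range := fun h =>
    h3 (H83.involves_of_subgroup
      (H83.involves_of_surjective_hom φ.rangeRestrict φ.rangeRestrict_surjective h))
  haveI := hA.1
  have hkerrP : IsPGroup 2 φ.rangeRestrict.ker := by
    rw [φ.ker_rangeRestrict]
    intro n
    obtain ⟨k, hk⟩ := hM2 ⟨(n : N), (n : N).2, (hker n).1 n.2⟩
    refine ⟨k, Subtype.ext (Subtype.ext ?_)⟩
    have h := congrArg Subtype.val hk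
    simp only [SubmonoidClass.coe_pow, OneMemClass.coe_one] at h ⊢
    exact h
  have hab : ∀ Q : Subgroup φ.range, IsPGroup 2 Q → ∀ x ∈ Q, ∀ y ∈ Q, x * y = y * x := by
    intro Q hQ x hx y hy
    obtain ⟨x, rfl⟩ := φ.rangeRestrict_surjective x
    obtain ⟨y, rfl⟩ := φ.rangeRestrict_surjective y
    obtain ⟨T, hT⟩ := ((hQ.comap_of_ker_isPGroup φ.rangeRestrict hkerrP).map N.subtype).exists_le_sylow
    obtain ⟨t, rfl⟩ := MulAction.exists_smul_eq G S T
    have hclT : ⁅⁅((t • S : Sylow 2 G) : Subgroup G), ((t • S : Sylow 2 G) : Subgroup G)⁆,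
        ((t • S : Sylow 2 G) : Subgroup G)⁆ = ⊥ := by
      rw [Sylow.coe_subgroup_smul]
      show ⁅⁅(S : Subgroup G).map (MulAut.conj t).toMonoidHom,
        (S : Subgroup G).map (MulAut.conj t).toMonoidHom⁆,
        (S : Subgroup G).map (MulAut.conj t).toMonoidHom⁆ = ⊥
      rw [← Subgroup.map_commutator, ← Subgroup.map_commutator, hcl, Subgroup.map_bot]
    have hc : ⁅(x : G), (y : G)⁆ ∈ C := by
      have h1 := (Subgroup.commutator_eq_bot_iff_le_centralizer.1 hclT)
        (Subgroup.commutator_mem_commutator (hT ⟨x, hx, rfl⟩) (hT ⟨y, hy, rfl⟩))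
      exact centralizer_le (show (U : Set G) ⊆ ((t • S : Sylow 2 G) : Subgroup G) from
        (hUZ.trans inf_le_left).trans (H19.pCore_le_sylow _)) h1
    refine commutatorElement_eq_one_iff_mul_comm.1 ?_
    rw [← map_commutatorElement]
    refine Subtype.ext ((hker ⁅x, y⁆).2 ?_)
    have hcoe : ((⁅x, y⁆ : N) : G) = ⁅(x : G), (y : G)⁆ := map_commutatorElement N.subtype x y
    rw [hcoe]; exact hc
  have hU2 : ∀ u : U, u * u = 1 := fun u => Subtype.ext (by
    have := hUea.2 u u.2
    rwa [pow_two] at this)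
  have hrange2 : ∀ a ∈ ψ.range, a * a = 1 := by
    rintro _ ⟨a, rfl⟩
    rw [← map_mul, ← map_one ψ]
    congr 1
    exact Subtype.ext (by have := hA.2 a a.2; rwa [pow_two] at this)
  have hUS : U ≤ (S : Subgroup G) := (hUZ.trans inf_le_left).trans hPS
  have hquad : ∀ a ∈ ψ.range, ∀ u : U, H83.delta φ.range.subtype a u ∈
      H83.fixedSub φ.range.subtype (ψ.range : Set φ.range) := by
    rintro _ ⟨a, rfl⟩ u _ ⟨b, rfl⟩
    show φ (⟨b, hAN b.2⟩ : N) (H83.delta φ.range.subtype (ψ a) u) = _
    refine Subtype.ext ?_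
    have hval : ((H83.delta φ.range.subtype (ψ a) u : U) : G) = ⁅(a : G), (u : G)⁆ := by
      rw [H83.delta_apply, commutatorElement_def, Subgroup.coe_div, div_eq_mul_inv]
      rfl
    simp only [φ, MonoidHom.coe_comp, Function.comp_apply, Subgroup.coe_subtype,
      MulAut.conjNormal_apply, hval]
    have h1 := (Subgroup.commutator_eq_bot_iff_le_centralizer.1 hcl)
      (Subgroup.commutator_mem_commutator (hAS a.2) (hUS u.2))
    rw [mem_centralizer_iff.1 h1 b (hAS b.2), mul_inv_cancel_right]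
  have hbest : ∀ B ≤ ψ.range, Nat.card B * Nat.card (H83.fixedSub φ.range.subtype (B : Set φ.range)) ≤
      Nat.card ψ.range * Nat.card (H83.fixedSub φ.range.subtype (ψ.range : Set φ.range)) := by
    intro B hB
    set B1 := (B.comap ψ).map A.subtype with hB1
    set D := U ⊓ centralizer (B1 : Set G) with hD
    have hB1A : B1 ≤ A := Subgroup.map_subtype_le _
    have hbd : Nat.card B1 * Nat.card D ≤ Nat.card A * Nat.card (A ⊓ U : Subgroup G) := by
      refine (H34.card_mul_card_le B1 D).trans (Nat.mul_le_mul ?_ (Subgroup.card_le_of_le ?_))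
      · exact hmax _ (sup_le (hB1A.trans hAS) (inf_le_left.trans hUS))
          (H34.isElementaryAbelian_sup (H34.isElementaryAbelian_mono hA hB1A)
            (H34.isElementaryAbelian_mono hUea inf_le_left)
            (Subgroup.le_centralizer_iff.1 inf_le_right))
      · exact inf_le_inf hB1A inf_le_left
    have hfB : Nat.card (H83.fixedSub φ.range.subtype (B : Set φ.range)) ≤ Nat.card D := by
      refine (Nat.card_le_card_of_injective (fun v => (⟨((v.1 : U) : G), v.1.2, ?_⟩ : D)) fun v w h =>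
        Subtype.ext (Subtype.ext (congrArg (fun d : D => (d : G)) h)))
      rintro _ ⟨a, ha, rfl⟩
      have h := congrArg Subtype.val (v.2 (ψ a) ha)
      change ((φ (⟨a, hAN a.2⟩ : N) v.1 : U) : G) = _ at h
      simp only [φ, MonoidHom.coe_comp, Function.comp_apply, Subgroup.coe_subtype,
        MulAut.conjNormal_apply] at h
      calc (a : G) * (v.1 : G) = (a : G) * (v.1 : G) * (a : G)⁻¹ * a := by group
        _ = (v.1 : G) * a := by rw [h]
    have hfA : Nat.card (A ⊓ U : Subgroup G) ≤
        Nat.card (H83.fixedSub φ.range.subtype (ψ.range : Set φ.range)) := by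
      refine Nat.card_le_card_of_injective (fun v => ⟨⟨(v : G), v.2.2⟩, ?_⟩) fun v w h =>
        Subtype.ext (congrArg Subtype.val (congrArg Subtype.val h) :)
      rintro _ ⟨a, rfl⟩
      show φ (⟨a, hAN a.2⟩ : N) _ = _
      refine Subtype.ext ?_
      simp only [φ, MonoidHom.coe_comp, Function.comp_apply, Subgroup.coe_subtype,
        MulAut.conjNormal_apply]
      rw [setLike_mul_comm (s := A) a.2 v.2.1, mul_inv_cancel_right]
    have hc1 : Nat.card B1 = Nat.card B * Nat.card ψ.ker := by
      rw [hB1, Subgroup.card_map_of_injective A.subtype_injective]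
      let f := ψ.comp (B.comap ψ).subtype
      have hr : f.range = B := by
        rw [show f.range = (B.comap ψ).subtype.range.map ψ from MonoidHom.range_comp _ _,
          Subgroup.range_subtype]
        exact Subgroup.map_comap_eq_self hB
      have hk : f.ker = ψ.ker.subgroupOf (B.comap ψ) := by rw [← MonoidHom.comap_ker]; rfl
      have hle : ψ.ker ≤ B.comap ψ := fun k hk => by
        rw [Subgroup.mem_comap, MonoidHom.mem_ker.1 hk]; exact B.one_mem
      have h2 := f.ker.index_mul_card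
      rw [Subgroup.index_ker, hr, hk, Nat.card_congr (Subgroup.subgroupOfEquivOfLe hle).toEquiv] at h2
      exact h2.symm
    have hcA : Nat.card A = Nat.card ψ.range * Nat.card ψ.ker := by
      rw [← Subgroup.index_ker, ψ.ker.index_mul_card]
    have h := (Nat.mul_le_mul (le_refl (Nat.card B1)) hfB).trans (hbd.trans (Nat.mul_le_mul_left _ hfA))
    rw [hc1, hcA, mul_right_comm, mul_right_comm (Nat.card ψ.range)] at h
    exact Nat.le_of_mul_le_mul_right h Nat.card_pos
  have hle := QuadraticOffender.offender_le_pCore φ.range.subtype φ.range.subtype_injective hU2 hab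
    (fun y a hy ha hay => H83.no_inverted_of_s3_free h3' hy ha hay) ψ.range hrange2 hquad hbest
  rw [hO, le_bot_iff] at hle
  intro a ha
  refine hMP ⟨hAN ha, (hker ⟨a, hAN ha⟩).1 ?_⟩
  have : ψ ⟨a, ha⟩ = 1 := DFunLike.congr_fun (MonoidHom.range_eq_bot_iff.1 hle) _
  exact congrArg Subtype.val this

/-- 2-constrained, `S₄`-free, class two Sylow 2-subgroup `S`: `G = N(J(S)) O(G)`. -/
theorem factorization (hcon : Cfsg.IsPConstrained 2 G)
    (hS4 : ¬ Cfsg.Involves (Equiv.Perm (Fin 4)) G) (S : Sylow 2 G)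
    (hcl : ⁅⁅(S : Subgroup G), (S : Subgroup G)⁆, (S : Subgroup G)⁆ = ⊥) :
    normalizer ((Cfsg.thompsonSubgroupOf 2 (S : Subgroup G)) : Set G) ⊔ Cfsg.pPrimeCore 2 G = ⊤ := by
  haveI : Fact (Nat.Prime 2) := ⟨Nat.prime_two⟩
  haveI hOn := H19.pPrimeCore_normal 2 G
  set f := QuotientGroup.mk' (Cfsg.pPrimeCore 2 G) with hfdef
  have hfs : Function.Surjective f := QuotientGroup.mk'_surjective _
  have hkc : (Nat.card f.ker).Coprime 2 := by
    rw [QuotientGroup.ker_mk']; exact H19.pPrimeCore_coprime 2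
  set S' := S.mapSurjective hfs with hS'def
  have hS' : (S' : Subgroup (G ⧸ Cfsg.pPrimeCore 2 G)) = (S : Subgroup G).map f := rfl
  have hcl' : ⁅⁅(S' : Subgroup (G ⧸ Cfsg.pPrimeCore 2 G)), (S' : Subgroup (G ⧸ Cfsg.pPrimeCore 2 G))⁆, (S' : Subgroup (G ⧸ Cfsg.pPrimeCore 2 G))⁆ = ⊥ := by
    rw [hS', ← Subgroup.map_commutator, ← Subgroup.map_commutator, hcl, Subgroup.map_bot]
  have hO' := H19.pPrimeCore_quotient_pPrimeCore (G := G) 2
  have hchar := (H35.isPConstrained_iff_of_surjective f hfs hkc hO').1 hcon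
  have hJle : Cfsg.thompsonSubgroupOf 2 (S' : Subgroup (G ⧸ Cfsg.pPrimeCore 2 G)) ≤ Cfsg.pCore 2 _ := by
    rw [H34.thompsonSubgroupOf_eq]
    exact sSup_le fun B hB => maxElementary_le_pCore hchar
      (fun h => hS4 (H83.involves_of_quotient h)) S' hcl' hB.1 hB.2.1 hB.2.2
  have hJn : normalizer ((Cfsg.thompsonSubgroupOf 2 (S' : Subgroup (G ⧸ Cfsg.pPrimeCore 2 G))) : Set (G ⧸ Cfsg.pPrimeCore 2 G)) = ⊤ := by
    rw [← H34.thompsonSubgroupOf_eq_of_le hJle (H19.pCore_le_sylow S'), eq_top_iff]
    haveI := H19.pCore_normal 2 (G ⧸ Cfsg.pPrimeCore 2 G)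
    rw [← Subgroup.normalizer_eq_top (H := Cfsg.pCore 2 (G ⧸ Cfsg.pPrimeCore 2 G))]
    exact H34.normalizer_le_normalizer_thompson _
  have hinj : Set.InjOn f (S : Subgroup G) := by
    intro x hx y hy h
    have h1 : x⁻¹ * y ∈ (S : Subgroup G) ⊓ f.ker :=
      Subgroup.mem_inf.2 ⟨mul_mem (inv_mem (SetLike.mem_coe.1 hx)) (SetLike.mem_coe.1 hy),
        MonoidHom.mem_ker.2 (by rw [map_mul, map_inv, h, inv_mul_cancel])⟩
    rw [H35.inf_eq_bot_of_coprime S.2 hkc, mem_bot, inv_mul_eq_one] at h1
    exact h1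
  have hmap := H35.map_normalizer_eq f hfs hkc
    (P := Cfsg.thompsonSubgroupOf 2 (S : Subgroup G)) (S.2.to_le (H34.thompsonSubgroupOf_le _))
  rw [H23.map_thompsonSubgroupOf f _ hinj, ← hS', hJn] at hmap
  have := congrArg (Subgroup.comap f) hmap
  rwa [Subgroup.comap_map_eq, QuotientGroup.ker_mk', Subgroup.comap_top] at this

end Cfsg.Agent.H50.ConstrainedThompson
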