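import Mathlib
import Cfsg.Prelude.Def_CaseTheorems
import Cfsg.Agent.H50.TwoInvolutions

/-! Fusion and transfer for an abelian Sylow 2-subgroup. -/

set_option linter.style.haveILetI false

namespace Cfsg.Agent.H50

/-- A homomorphism onto a nontrivial finite 2-group yields a subgroup of index two. -/
theorem exists_index_two_of_map {G A : Type*} [Group G] [Finite G] [Group A] [Finite A]
    (hA : IsPGroup 2 A) (f : G →* A) {v : G} (hv : f v ≠ 1) :
    ∃ H : Subgroup G, H.index = 2 ∧ f.ker ≤ H := by
  haveI : Fact (Nat.Prime 2) := ⟨Nat.prime_two⟩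
  haveI : Nontrivial f.range := ⟨⟨⟨f v, v, rfl⟩, 1, fun h => hv (congrArg Subtype.val h)⟩⟩
  obtain ⟨k, hk0, hk⟩ :=
    (IsPGroup.nontrivial_iff_card (hA.to_subgroup f.range)).1 inferInstance
  obtain ⟨K, hK⟩ := Sylow.exists_subgroup_card_pow_prime 2 (G := f.range) (n := k - 1)
    (by rw [hk]; exact pow_dvd_pow 2 (Nat.sub_le k 1))
  refine ⟨K.comap f.rangeRestrict, ?_, fun x hx => ?_⟩
  swap
  · rw [Subgroup.mem_comap]
    convert K.one_mem
    exact Subtype.ext hx
  rw [Subgroup.index_comap_of_surjective _ f.rangeRestrict_surjective]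
  have h := K.card_mul_index
  rw [hK, hk] at h
  have h2 : 2 ^ k = 2 ^ (k - 1) * 2 := by rw [← pow_succ]; congr 1; omega
  rw [h2] at h
  exact Nat.eq_of_mul_eq_mul_left (by positivity) h

variable {G : Type*} [Group G] [Finite G]

/-- For an abelian Sylow 2-subgroup `S`, an element of `S` central in `N(S)` is trivial when `G` has
no subgroup of index two. -/
theorem abelian_sylow_fixed_trivial (hG : ∀ H : Subgroup G, H.index ≠ 2) (S : Sylow 2 G)
    (hS : IsMulCommutative (S : Subgroup G)) {v : G} (hv : v ∈ S)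
    (hfix : ∀ n ∈ Subgroup.normalizer ((S : Subgroup G) : Set G), Commute n v) : v = 1 := by
  by_contra hne
  haveI : Fact (Nat.Prime 2) := ⟨Nat.prime_two⟩
  haveI := hS
  open scoped IsMulCommutative in
  obtain ⟨f, hf⟩ : ∃ f : G →* (S : Subgroup G),
      (f v : G) = v ^ (S : Subgroup G).index := by
    refine ⟨MonoidHom.transfer (MonoidHom.id (S : Subgroup G)), ?_⟩
    have key : ∀ (k : ℕ) (g₀ : G), g₀⁻¹ * v ^ k * g₀ ∈ (S : Subgroup G) →
        g₀⁻¹ * v ^ k * g₀ = v ^ k := by
      intro k g₀ hk
      obtain ⟨n, hn, he⟩ := Sylow.conj_eq_normalizer_conj_of_mem S (v ^ k) g₀ (pow_mem hv k) hk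
      rw [he, mul_assoc, ((hfix n hn).pow_right k).eq.symm, inv_mul_cancel_left]
    rw [MonoidHom.transfer_eq_pow _ v key]
    rfl
  have hne' : f v ≠ 1 := by
    intro h
    rw [h, OneMemClass.coe_one] at hf
    obtain ⟨k, hk⟩ := IsPGroup.iff_orderOf.1 S.2 ⟨v, hv⟩
    rw [← Subgroup.orderOf_coe] at hk
    have hd : orderOf v ∣ (S : Subgroup G).index := orderOf_dvd_of_pow_eq_one hf.symm
    have hk0 : k ≠ 0 := fun h0 => hne (orderOf_eq_one_iff.1 (by simpa [h0] using hk))
    exact S.not_dvd_index ((dvd_pow_self 2 hk0).trans (hk ▸ hd))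
  obtain ⟨H, hH, -⟩ := exists_index_two_of_map S.2 f hne'
  exact hG H hH

/-- Thompson transfer for abelian Sylow 2-subgroups: each involution of `S` has an `N(S)`-conjugate
in a subgroup of corank one. -/
theorem exists_conj_into_corank_one (hG : ∀ H : Subgroup G, H.index ≠ 2) (S : Sylow 2 G)
    (hS : IsMulCommutative (S : Subgroup G)) (r : ℕ) (hr1 : 1 ≤ r)
    (hSr : Cfsg.PRankLE 2 r (S : Subgroup G) ∧ ¬ Cfsg.PRankLE 2 (r - 1) (S : Subgroup G))
    (R : Subgroup G) (hRS : R ≤ S)
    (hRr : Cfsg.PRankLE 2 (r - 1) R ∧ (r = 1 ∨ ¬ Cfsg.PRankLE 2 (r - 2) R))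
    (t : G) (ht : orderOf t = 2) (htS : t ∈ S) :
    ∃ n ∈ Subgroup.normalizer ((S : Subgroup G) : Set G), n * t * n⁻¹ ∈ R := by
  classical
  haveI : Fact (Nat.Prime 2) := ⟨Nat.prime_two⟩
  haveI := hS
  open scoped IsMulCommutative in
  let V : Subgroup (S : Subgroup G) := (powMonoidHom 2).ker
  have hV : ∀ x : (S : Subgroup G), x ∈ V ↔ x ^ 2 = 1 := fun x => Iff.rfl
  haveI : IsMulCommutative V := ⟨⟨fun a b => Subtype.ext (hS.is_comm.comm (a : (S : Subgroup G)) b)⟩⟩
  have hVp : IsPGroup 2 V := S.2.to_subgroup V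
  haveI : Fintype V := Fintype.ofFinite V
  -- the order of `V`
  have hVcard : Nat.card V = 2 ^ r := by
    obtain ⟨e, he⟩ := IsPGroup.iff_card.1 hVp
    have hle : Nat.card V ≤ 2 ^ r := hSr.1 V inferInstance fun a ha => (hV a).1 ha
    have hgt : ¬ Nat.card V ≤ 2 ^ (r - 1) := by
      intro h
      apply hSr.2
      intro A hAc hA2
      exact le_trans (Subgroup.card_le_of_le fun a ha => (hV a).2 (hA2 a ha)) h
    rw [he] at hle hgt ⊢
    have h1 := (Nat.pow_le_pow_iff_right (a := 2) (by norm_num)).1 hle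
    have h2 : ¬ e ≤ r - 1 := fun h => hgt (Nat.pow_le_pow_right (by norm_num) h)
    congr 1
    omega
  let W : Subgroup V := (R.subgroupOf (S : Subgroup G)).subgroupOf V
  have hWcard : Nat.card W ≤ 2 ^ (r - 1) := by
    let j : W →* R :=
      { toFun := fun w => ⟨((w.1.1 : (S : Subgroup G)) : G), w.2⟩
        map_one' := rfl
        map_mul' := fun _ _ => rfl }
    have hj : Function.Injective j := fun a b h => by
      have h' : (((a : V) : (S : Subgroup G)) : G) = ((b : V) : (S : Subgroup G)) :=
        congrArg (fun w : R => (w : G)) h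
      exact Subtype.ext (Subtype.ext (Subtype.ext h'))
    rw [Nat.card_congr (MonoidHom.ofInjective hj).toEquiv]
    refine hRr.1 j.range ⟨⟨?_⟩⟩ ?_
    · rintro ⟨_, a, rfl⟩ ⟨_, b, rfl⟩
      exact Subtype.ext (by
        show j a * j b = j b * j a
        rw [← map_mul, ← map_mul]
        exact congrArg j (Subtype.ext (Subtype.ext (hS.is_comm.comm ((a : V) : (S : Subgroup G)) (b : V)))))
    · rintro _ ⟨a, rfl⟩
      rw [← map_pow]
      convert map_one j
      exact Subtype.ext (Subtype.ext ((hV _).1 (a : V).2))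
  have hWidx : W.index = 2 := by
    obtain ⟨e, he⟩ := IsPGroup.iff_card.1 (hVp.to_subgroup W)
    have h1 := W.card_mul_index
    rw [hVcard, he] at h1
    rw [he] at hWcard
    have h2 := (Nat.pow_le_pow_iff_right (a := 2) (by norm_num)).1 hWcard
    have h3 : r - 1 ≤ e := by
      rcases hRr.2 with h | h
      · omega
      · by_contra hlt
        apply h
        intro A hAc hA2
        refine le_trans ?_ (le_trans he.le (Nat.pow_le_pow_right (by norm_num) (by omega)))
        refine Nat.card_le_card_of_injective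
          (fun a : A => (⟨⟨⟨((a : R) : G), hRS (a : R).2⟩, (hV _).2 (Subtype.ext (by
            show ((a : R) : G) ^ 2 = 1
            exact congrArg Subtype.val (hA2 a a.2)))⟩, (a : R).2⟩ : W)) ?_
        intro x y hxy
        have h' := congrArg (fun w : W => (((w : V) : (S : Subgroup G)) : G)) hxy
        exact Subtype.ext (Subtype.ext h')
    rw [show e = r - 1 by omega] at h1
    have h4 : 2 ^ r = 2 ^ (r - 1) * 2 := by rw [← pow_succ]; congr 1; omega
    rw [h4] at h1
    exact Nat.eq_of_mul_eq_mul_left (by positivity) h1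
  by_contra hcon
  push Not at hcon
  open scoped IsMulCommutative in
  obtain ⟨O, hOcard, hO, hfixO⟩ : ∃ O : Finset V, Odd O.card ∧
      (∀ x ∈ O, x ∉ W) ∧
      ∀ n ∈ Subgroup.normalizer ((S : Subgroup G) : Set G),
        Commute n (((∏ x ∈ O, x : V) : (S : Subgroup G)) : G) := by
    let N := Subgroup.normalizer ((S : Subgroup G) : Set G)
    have hconj : ∀ n ∈ N, ∀ x : V, n * ((x : (S : Subgroup G)) : G) * n⁻¹ ∈ (S : Subgroup G) :=
      fun n hn x => (Subgroup.mem_normalizer_iff.1 hn _).1 (x : (S : Subgroup G)).2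
    refine ⟨Finset.univ.filter fun x : V => ∃ n : N, ((x : (S : Subgroup G)) : G) = n * t * (n : G)⁻¹,
      ?_, ?_, ?_⟩
    · let Ct : Subgroup N := (Subgroup.centralizer ({t} : Set G)).subgroupOf N
      have hmem : ∀ n : N, (n : G) * t * (n : G)⁻¹ ∈ (S : Subgroup G) := fun n =>
        (Subgroup.mem_normalizer_iff.1 n.2 _).1 htS
      have ht2 : t * t = 1 := inv_mul_self ht
      let g : N ⧸ Ct → {x : V // x ∈ Finset.univ.filter
          fun x : V => ∃ n : N, ((x : (S : Subgroup G)) : G) = n * t * (n : G)⁻¹} :=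
        Quotient.lift (fun n : N => ⟨⟨⟨_, hmem n⟩, (hV _).2 (Subtype.ext (by
            show ((n : G) * t * (n : G)⁻¹) ^ 2 = 1
            rw [conj_pow, pow_two, ht2, mul_one, mul_inv_cancel]))⟩,
            Finset.mem_filter.2 ⟨Finset.mem_univ _, n, rfl⟩⟩) (by
          intro n n' h
          have h' : (n : G)⁻¹ * n' ∈ Subgroup.centralizer ({t} : Set G) :=
            (QuotientGroup.leftRel_apply (s := Ct)).1 h
          rw [Subgroup.mem_centralizer_singleton_iff] at h'
          apply Subtype.ext; apply Subtype.ext; apply Subtype.ext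
          show (n : G) * t * (n : G)⁻¹ = (n' : G) * t * (n' : G)⁻¹
          calc (n : G) * t * (n : G)⁻¹ = n * (t * ((n : G)⁻¹ * n')) * (n' : G)⁻¹ := by group
            _ = n * ((n : G)⁻¹ * n' * t) * (n' : G)⁻¹ := by rw [h']
            _ = (n' : G) * t * (n' : G)⁻¹ := by group)
      have hg : Function.Bijective g := by
        constructor
        · intro a b
          induction a using Quotient.inductionOn with | _ n =>
          induction b using Quotient.inductionOn with | _ n' =>
          intro h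
          apply Quotient.sound
          have h1 : (n : G) * t * (n : G)⁻¹ = (n' : G) * t * (n' : G)⁻¹ :=
            congrArg (fun w => (((w.1 : V) : (S : Subgroup G)) : G)) h
          refine (QuotientGroup.leftRel_apply (s := Ct)).2 ?_
          show (n : G)⁻¹ * (n' : G) ∈ Subgroup.centralizer ({t} : Set G)
          rw [Subgroup.mem_centralizer_singleton_iff]
          calc (n : G)⁻¹ * n' * t = (n : G)⁻¹ * (n' * t * (n' : G)⁻¹) * n' := by group
            _ = (n : G)⁻¹ * (n * t * (n : G)⁻¹) * n' := by rw [h1]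
            _ = t * ((n : G)⁻¹ * n') := by group
        · rintro ⟨x, hx⟩
          obtain ⟨n, hn⟩ := (Finset.mem_filter.1 hx).2
          exact ⟨Quotient.mk _ n, Subtype.ext (Subtype.ext (Subtype.ext hn.symm))⟩
      rw [← Fintype.card_coe, ← Nat.card_eq_fintype_card, ← Nat.card_eq_of_bijective g hg]
      have hle : (S : Subgroup G).subgroupOf N ≤ Ct := fun x hx => by
        show (x : G) ∈ Subgroup.centralizer ({t} : Set G)
        rw [Subgroup.mem_centralizer_singleton_iff]
        exact congrArg Subtype.val (hS.is_comm.comm ⟨(x : G), hx⟩ ⟨t, htS⟩)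
      refine Odd.of_dvd_nat ?_ ((Subgroup.index_dvd_of_le hle).trans
        (Subgroup.relIndex_dvd_index_of_le (Subgroup.le_normalizer (H := (S : Subgroup G)))))
      exact Nat.not_even_iff_odd.1 fun h => S.not_dvd_index (even_iff_two_dvd.1 h)
    · intro x hx hxW
      obtain ⟨n, hn⟩ := (Finset.mem_filter.1 hx).2
      apply hcon n n.2
      rw [← hn]
      exact hxW
    · intro n hn
      let c : V →* V :=
        { toFun := fun x => ⟨⟨n * ((x : (S : Subgroup G)) : G) * n⁻¹, hconj n hn x⟩,
            (hV _).2 (Subtype.ext (by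
              show (n * ((x : (S : Subgroup G)) : G) * n⁻¹) ^ 2 = 1
              rw [conj_pow, show ((x : (S : Subgroup G)) : G) ^ 2 = 1 from
                congrArg Subtype.val ((hV _).1 x.2), mul_one, mul_inv_cancel]))⟩
          map_one' := by apply Subtype.ext; apply Subtype.ext; simp
          map_mul' := fun x y => by
            apply Subtype.ext; apply Subtype.ext
            show n * (((x : (S : Subgroup G)) : G) * ((y : (S : Subgroup G)) : G)) * n⁻¹ = _
            exact conj_mul.symm }
      have hc : Function.Injective c := fun x y h => by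
        have h' : n * ((x : (S : Subgroup G)) : G) * n⁻¹ = n * ((y : (S : Subgroup G)) : G) * n⁻¹ :=
          congrArg (fun w : V => ((w : (S : Subgroup G)) : G)) h
        exact Subtype.ext (Subtype.ext (mul_left_cancel (mul_right_cancel h')))
      set O := Finset.univ.filter fun x : V => ∃ n : N, ((x : (S : Subgroup G)) : G) = n * t * (n : G)⁻¹
      have hsub : O.image c ⊆ O := by
        intro y hy
        obtain ⟨x, hx, rfl⟩ := Finset.mem_image.1 hy
        obtain ⟨m, hm⟩ := (Finset.mem_filter.1 hx).2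
        refine Finset.mem_filter.2 ⟨Finset.mem_univ _, ⟨n, hn⟩ * m, ?_⟩
        show n * ((x : (S : Subgroup G)) : G) * n⁻¹ = n * (m : G) * t * (n * (m : G))⁻¹
        rw [hm]; group
      have himg : O.image c = O :=
        Finset.eq_of_subset_of_card_le hsub (by rw [Finset.card_image_of_injective _ hc])
      have hp : c (∏ x ∈ O, x) = ∏ x ∈ O, x := by
        rw [map_prod]
        conv_rhs => rw [← himg, Finset.prod_image hc.injOn]
      exact mul_inv_eq_iff_eq_mul.1 (congrArg (fun w : V => ((w : (S : Subgroup G)) : G)) hp)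
  open scoped IsMulCommutative in
  have hprod : ∀ P : Finset V, (∀ x ∈ P, x ∉ W) → ((∏ x ∈ P, x) ∈ W ↔ Even P.card) := by
    intro P
    induction P using Finset.induction with
    | empty => simp
    | insert x P hx ih =>
      intro h
      rw [Finset.prod_insert hx, Subgroup.mul_mem_iff_of_index_two hWidx, ih fun y hy =>
        h y (Finset.mem_insert_of_mem hy), Finset.card_insert_of_notMem hx, Nat.even_add_one]
      simp [h x (Finset.mem_insert_self x P)]
  have h1 := abelian_sylow_fixed_trivial hG S hS (SetLike.coe_mem _) hfixO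
  refine Nat.not_even_iff_odd.2 hOcard ((hprod O hO).1 ?_)
  convert W.one_mem
  exact Subtype.ext (Subtype.ext h1)

end Cfsg.Agent.H50
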