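import Mathlib

set_option autoImplicit false

namespace Cfsg.Agent.H50

/-- Linear automorphisms of a finite `ZMod p`-space of order at most `p ^ n` embed into `GL n`. -/
theorem exists_injective_linearEquiv_GL {X : Type*} [AddCommGroup X] [Finite X] {p n : ℕ}
    [Fact p.Prime] [Module (ZMod p) X] (hcard : Nat.card X ≤ p ^ n) :
    ∃ f : (X ≃ₗ[ZMod p] X) →* GL (Fin n) (ZMod p), Function.Injective f := by
  have hd : Module.finrank (ZMod p) X ≤ n := by
    refine (Nat.pow_le_pow_iff_right (Fact.out : p.Prime).one_lt).mp ?_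
    have h : Nat.card X = Nat.card (ZMod p) ^ Module.finrank (ZMod p) X :=
      Module.natCard_eq_pow_finrank
    rw [Nat.card_zmod] at h
    rw [← h]
    exact hcard
  set d := Module.finrank (ZMod p) X with hddef
  let b := Module.finBasisOfFinrankEq (ZMod p) (X × (Fin (n - d) → ZMod p))
    (show Module.finrank (ZMod p) (X × (Fin (n - d) → ZMod p)) = n by
      rw [Module.finrank_prod, Module.finrank_fin_fun, ← hddef]; omega)
  let lift : (X ≃ₗ[ZMod p] X) →* LinearMap.GeneralLinearGroup (ZMod p)
      (X × (Fin (n - d) → ZMod p)) :=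
    { toFun := fun φ => (LinearMap.GeneralLinearGroup.generalLinearEquiv (ZMod p) _).symm
        (LinearEquiv.prodCongr φ (LinearEquiv.refl _ _))
      map_one' := Units.ext (LinearMap.ext fun x => rfl)
      map_mul' := fun φ ψ => Units.ext (LinearMap.ext fun x => rfl) }
  refine ⟨((Matrix.GeneralLinearGroup.toLin' b).symm.toMonoidHom).comp lift,
    (Matrix.GeneralLinearGroup.toLin' b).symm.injective.comp fun φ ψ h => ?_⟩
  ext v
  exact congrArg (fun g : LinearMap.GeneralLinearGroup (ZMod p) (X × (Fin (n - d) → ZMod p)) =>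
    ((g : (X × (Fin (n - d) → ZMod p)) →ₗ[ZMod p] (X × (Fin (n - d) → ZMod p)))
      (v, (0 : Fin (n - d) → ZMod p))).1) h

/-- Additive automorphisms of an elementary abelian group of order at most `p ^ n` embed into
`GL n`. -/
theorem exists_injective_addEquiv_GL {X : Type*} [AddCommGroup X] [Finite X] {p n : ℕ}
    [Fact p.Prime] [Module (ZMod p) X] (hcard : Nat.card X ≤ p ^ n) :
    ∃ f : (X ≃+ X) → GL (Fin n) (ZMod p), Function.Injective f ∧ f (AddEquiv.refl X) = 1 ∧
      ∀ a b : X ≃+ X, f (a.trans b) = f b * f a := by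
  obtain ⟨f, hf⟩ := exists_injective_linearEquiv_GL (X := X) (p := p) hcard
  let g : (X ≃+ X) → (X ≃ₗ[ZMod p] X) := fun φ =>
    { φ with map_smul' := fun c x => ZMod.map_smul (φ : X →+ X) c x }
  refine ⟨fun φ => f (g φ), hf.comp fun φ ψ h => AddEquiv.ext fun v => ?_, ?_, fun a b => ?_⟩
  · exact congrArg (fun e : X ≃ₗ[ZMod p] X => e v) h
  · show f (g (AddEquiv.refl X)) = 1
    rw [show g (AddEquiv.refl X) = 1 from LinearEquiv.ext fun x => rfl, map_one]
  · show f (g (a.trans b)) = f (g b) * f (g a)
    rw [← map_mul]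
    exact congrArg f (LinearEquiv.ext fun x => rfl)

/-- The automorphism group of an abelian group of exponent `p` and order at most `p ^ n` embeds
into `GL n` over `ZMod p`. -/
theorem exists_injective_hom_GL {V : Type*} [CommGroup V] [Finite V] {p n : ℕ} [Fact p.Prime]
    (hexp : ∀ v : V, v ^ p = 1) (hcard : Nat.card V ≤ p ^ n) :
    ∃ f : MulAut V →* GL (Fin n) (ZMod p), Function.Injective f := by
  have : Finite (Additive V) := inferInstanceAs (Finite V)
  obtain ⟨f, hf, h1, hm⟩ := @exists_injective_addEquiv_GL (Additive V) _ _ p n _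
    (AddCommGroup.zmodModule fun x => Additive.toMul.injective (by simpa using hexp x.toMul)) hcard
  refine ⟨{ toFun := fun φ => f (MulEquiv.toAdditive φ)
            map_one' := h1
            map_mul' := fun φ ψ => hm (MulEquiv.toAdditive ψ) (MulEquiv.toAdditive φ) },
    fun φ ψ h => MulEquiv.toAdditive.injective (hf h)⟩

/-- The map from the automorphisms of a group to those of a characteristic quotient. -/
noncomputable def quotientAutHom {P : Type*} [Group P] (N : Subgroup P) [N.Characteristic] :
    MulAut P →* MulAut (P ⧸ N) where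
  toFun e := QuotientGroup.congr N N e
    (Subgroup.characteristic_iff_map_eq.mp ‹N.Characteristic› e)
  map_one' := MulEquiv.ext fun x => by
    induction x using QuotientGroup.induction_on with
    | _ x => rfl
  map_mul' a b := MulEquiv.ext fun x => by
    induction x using QuotientGroup.induction_on with
    | _ x => rfl

theorem quotientAutHom_eq_one {P : Type*} [Group P] (N : Subgroup P) [N.Characteristic]
    {e : MulAut P} (he : quotientAutHom N e = 1) (q : P) : q⁻¹ * e q ∈ N := by
  have h := DFunLike.congr_fun he (q : P ⧸ N)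
  exact (QuotientGroup.eq.mp (show ((e q : P) : P ⧸ N) = (q : P ⧸ N) from h).symm)

end Cfsg.Agent.H50
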