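import Cfsg.Agent.H83.SolvableBound
import Cfsg.Agent.H34.Thompson
import Cfsg.Agent.H23.Thompson
import Cfsg.Agent.H35.Quotient
import Cfsg.Agent.H20.Abelian
import Cfsg.Agent.H53.Stabilizer
import Cfsg.Prelude.Def_Transfer
import Mathlib

/-!
Thompson factorisation for solvable groups without `S₄` section whose Sylow 2-subgroup has class two.
-/

set_option autoImplicit false
open scoped commutatorElement IsMulCommutative

namespace Cfsg.Agent.H50.ClassTwoThompson

open Subgroup

variable {G : Type*} [Group G] [Finite G]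

/-- A subgroup all whose elements of odd order are trivial is a 2-group. -/
theorem isPGroup_two_of_odd_trivial {M : Subgroup G}
    (h : ∀ y ∈ M, Odd (orderOf y) → y = 1) : IsPGroup 2 M := by
  intro g
  obtain ⟨a, b, hb, hab⟩ :=
    Nat.exists_eq_pow_mul_and_not_dvd (orderOf_pos (g : G)).ne' 2 (by norm_num)
  refine ⟨a, Subtype.ext ?_⟩
  rw [SubmonoidClass.coe_pow]
  refine h _ (pow_mem g.2 _) ?_
  rw [orderOf_pow, hab, Nat.gcd_mul_right_left, Nat.mul_div_cancel_left _ (pow_pos (by norm_num) a)]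
  rcases Nat.even_or_odd b with he | ho
  · exact absurd (even_iff_two_dvd.1 he) hb
  · exact ho

/-- In the situation with `C(O₂) ≤ O₂`, an elementary abelian subgroup of largest order of a class
two Sylow subgroup lies in `O₂`. -/
theorem maxElementary_le_pCore [Group.IsSolvable G]
    (hchar : centralizer (Cfsg.pCore 2 G : Set G) ≤ Cfsg.pCore 2 G)
    (hS4 : ¬ Cfsg.Involves (Equiv.Perm (Fin 4)) G) (S : Sylow 2 G)
    (hcl : ⁅⁅(S : Subgroup G), (S : Subgroup G)⁆, (S : Subgroup G)⁆ = ⊥)
    {A : Subgroup G} (hAS : A ≤ (S : Subgroup G)) (hA : Cfsg.IsElementaryAbelian 2 A)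
    (hmax : ∀ B ≤ (S : Subgroup G), Cfsg.IsElementaryAbelian 2 B → Nat.card B ≤ Nat.card A) :
    A ≤ Cfsg.pCore 2 G := by
  classical
  haveI : Fact (Nat.Prime 2) := ⟨Nat.prime_two⟩
  have h3 := H83.not_involves_s3_of_char_two hchar hS4
  set P := Cfsg.pCore 2 G with hPdef
  haveI hPn : P.Normal := H19.pCore_normal 2 G
  have hP2 : IsPGroup 2 P := H19.pCore_isPGroup 2
  have hPS : P ≤ (S : Subgroup G) := H19.pCore_le_sylow S
  set Z := P ⊓ centralizer (P : Set G) with hZdef
  haveI hZn : Z.Normal := Subgroup.normal_inf_normal _ _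
  haveI hZc : IsMulCommutative Z := H34.isMulCommutative_inf_centralizer P
  set U := Cfsg.omegaOne 2 Z with hUdef
  have hUea : Cfsg.IsElementaryAbelian 2 U := H34.omegaOne_isElementaryAbelian
  have hUZ : U ≤ Z := H34.omegaOne_le Z
  haveI hUn : U.Normal := ⟨fun x hx g => by
    have h := H34.map_omegaOne (p := 2) (MulAut.conj g).toMonoidHom (MulAut.conj g).injective Z
    have hmem : g * x * g⁻¹ ∈ U.map (MulAut.conj g).toMonoidHom := ⟨x, hx, rfl⟩
    rw [hUdef, h] at hmem
    refine H34.omegaOne_mono ?_ hmem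
    rintro _ ⟨z, hz, rfl⟩
    exact hZn.conj_mem z hz g⟩
  haveI hUc : IsMulCommutative U := hUea.1
  -- `A` stabilises `P / Z`
  set N := Subgroup.normalClosure (A : Set G) with hNdef
  have hAN : A ≤ N := fun a ha => Subgroup.subset_normalClosure ha
  haveI : (P.map (QuotientGroup.mk' Z)).Normal := hPn.map _ (QuotientGroup.mk'_surjective Z)
  have hNK : N ≤ (centralizer (P.map (QuotientGroup.mk' Z) : Set (G ⧸ Z))).comap
      (QuotientGroup.mk' Z) := by
    refine Subgroup.normalClosure_le_normal ?_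
    intro a ha
    rw [SetLike.mem_coe, Subgroup.mem_comap, mem_centralizer_iff]
    rintro _ ⟨u, hu, rfl⟩
    refine commutatorElement_eq_one_iff_mul_comm.1 ?_
    rw [← map_commutatorElement, ← MonoidHom.mem_ker, QuotientGroup.ker_mk']
    refine ⟨?_, ?_⟩
    · have h1 : a * u⁻¹ * a⁻¹ ∈ P := hPn.conj_mem _ (inv_mem hu) a
      rw [commutatorElement_def, show u * a * u⁻¹ * a⁻¹ = u * (a * u⁻¹ * a⁻¹) by group]
      exact mul_mem hu h1
    · refine centralizer_le (show (P : Set G) ⊆ (S : Subgroup G) from hPS) ?_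
      refine (Subgroup.commutator_eq_bot_iff_le_centralizer.1 hcl) ?_
      exact Subgroup.commutator_mem_commutator (hPS hu) (hAS ha)
  -- elements of odd order of `N` act faithfully on `U`
  set C := centralizer (U : Set G) with hCdef
  have hM2 : IsPGroup 2 (N ⊓ C : Subgroup G) := isPGroup_two_of_odd_trivial fun y hy hyodd => by
    have hcopZ : (Nat.card (Subgroup.zpowers y)).Coprime (Nat.card Z) := by
      obtain ⟨k, hk⟩ := IsPGroup.iff_card.1 (hP2.to_le (inf_le_left : Z ≤ P))
      rw [hk, Nat.card_zpowers]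
      exact (Nat.coprime_two_right.2 hyodd).pow_right k
    have hyZ : Subgroup.zpowers y ≤ centralizer (Z : Set G) := by
      refine H20.le_centralizer_of_fixes_prime_order
        (le_top.trans_eq (Subgroup.normalizer_eq_top (H := Z)).symm) hcopZ fun v hv hvp a ha => ?_
      obtain ⟨k, hk⟩ := (IsPGroup.iff_orderOf.1 hP2) ⟨v, hv.1⟩
      rw [← Subgroup.orderOf_coe] at hk
      have hk2 : orderOf v = 2 := by
        rw [hk] at hvp ⊢
        rcases k with _ | _ | k
        · simp [Nat.not_prime_one] at hvp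
        · rfl
        · exact absurd hvp (Nat.Prime.not_prime_pow (by omega))
      have hvU : v ∈ U := H34.mem_omegaOne hv (hk2 ▸ pow_orderOf_eq_one v)
      have : a ∈ C := (Subgroup.zpowers_le.2 hy.2) ha
      exact ((mem_centralizer_iff.1 this) v hvU).symm
    have hyP : Subgroup.zpowers y ≤ centralizer (P : Set G) := by
      refine H53.le_centralizer_of_two_step hcopZ ?_ ?_
      · refine Subgroup.commutator_le.2 fun u hu g hg => ?_
        have h1 := (Subgroup.zpowers_le.2 (hNK hy.1)) hg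
        rw [Subgroup.mem_comap, mem_centralizer_iff] at h1
        rw [← QuotientGroup.ker_mk' Z, MonoidHom.mem_ker, map_commutatorElement]
        exact commutatorElement_eq_one_iff_mul_comm.2 (h1 _ ⟨u, hu, rfl⟩)
      · rw [Subgroup.commutator_comm]
        exact Subgroup.commutator_eq_bot_iff_le_centralizer.2 hyZ
    have h1 : y ∈ P := hchar (hyP (Subgroup.mem_zpowers y))
    obtain ⟨k, hk⟩ := IsPGroup.iff_card.1 hP2
    have h2 := Subgroup.orderOf_dvd_natCard P h1
    rw [hk] at h2
    exact orderOf_eq_one_iff.1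
      (Nat.eq_one_of_dvd_coprimes ((Nat.coprime_two_right.2 hyodd).pow_right k) dvd_rfl h2)
  have hMP : N ⊓ C ≤ P := H19.le_pCore (Subgroup.normal_inf_normal _ _) hM2
  -- the image in the automorphism group of `U`
  let φ : N →* MulAut U := (MulAut.conjNormal (H := U)).comp N.subtype
  have hker : ∀ n : N, φ n = 1 ↔ (n : G) ∈ C := by
    intro n
    constructor
    · intro h
      refine mem_centralizer_iff.2 fun u hu => ?_
      have := congrArg (fun f : MulAut U => ((f ⟨u, hu⟩ : U) : G)) h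
      simp only [φ, MonoidHom.coe_comp, Function.comp_apply, Subgroup.coe_subtype,
        MulAut.conjNormal_apply, MulAut.one_apply] at this
      calc u * (n : G) = (n : G) * u * (n : G)⁻¹ * n := by rw [this]
        _ = n * u := by group
    · intro h
      refine MulEquiv.ext fun u => Subtype.ext ?_
      simp only [φ, MonoidHom.coe_comp, Function.comp_apply, Subgroup.coe_subtype,
        MulAut.conjNormal_apply, MulAut.one_apply]
      rw [← mem_centralizer_iff.1 h u u.2, mul_inv_cancel_right]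
  have hO : Cfsg.pCore 2 φ.range = ⊥ := by
    have hkP : IsPGroup 2 φ.rangeRestrict.ker := by
      rw [φ.ker_rangeRestrict]
      intro n
      obtain ⟨k, hk⟩ := hM2 ⟨(n : N), (n : N).2, (hker n).1 n.2⟩
      refine ⟨k, Subtype.ext (Subtype.ext ?_)⟩
      have h := congrArg Subtype.val hk
      simp only [SubmonoidClass.coe_pow, OneMemClass.coe_one] at h ⊢
      exact h
    have hR2 := (H19.pCore_isPGroup (G := φ.range) 2).comap_of_ker_isPGroup φ.rangeRestrict hkP
    haveI := H19.pCore_normal 2 φ.range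
    have hRP := H19.map_pCore_le (p := 2) N
    rw [eq_bot_iff]
    intro z hz
    obtain ⟨n, rfl⟩ := φ.rangeRestrict_surjective z
    have hn : n ∈ Cfsg.pCore 2 N :=
      H19.le_pCore (Subgroup.Normal.comap inferInstance _) hR2 hz
    have hnP : (n : G) ∈ P := hRP ⟨n, hn, rfl⟩
    have hnC : (n : G) ∈ C := by
      refine mem_centralizer_iff.2 fun u hu => ?_
      exact ((mem_centralizer_iff.1 (hUZ hu).2) n hnP).symm
    exact Subtype.ext ((hker n).2 hnC)
  haveI : Group.IsSolvable N := inferInstance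
  haveI : Group.IsSolvable φ.range := Group.isSolvable_of_surjective φ.rangeRestrict_surjective
  let ψ : A →* φ.range := φ.rangeRestrict.comp (Subgroup.inclusion hAN)
  have h3' : ¬ Cfsg.Involves (Equiv.Perm (Fin 3)) φ.range := fun h =>
    h3 (H83.involves_of_subgroup
      (H83.involves_of_surjective_hom φ.rangeRestrict φ.rangeRestrict_surjective h))
  haveI := hA.1
  have hψc : IsMulCommutative ψ.range := by
    refine ⟨⟨?_⟩⟩
    rintro ⟨_, a, rfl⟩ ⟨_, b, rfl⟩
    exact Subtype.ext (by
      show ψ a * ψ b = ψ b * ψ a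
      rw [← map_mul, ← map_mul, mul_comm' a b])
  have hU2 : ∀ u : U, u * u = 1 := fun u => Subtype.ext (by
    have := hUea.2 u u.2
    rwa [pow_two] at this)
  have hbound := (H83.offender_bound_solvable φ.range.subtype φ.range.subtype_injective hU2 hO h3'
    ψ.range hψc (by
      rintro _ ⟨a, rfl⟩
      rw [← map_mul, ← map_one ψ]
      congr 1
      exact Subtype.ext (by have := hA.2 a a.2; rwa [pow_two] at this))).1
  -- counting
  set A0 := A ⊓ C with hA0
  have hcard : Nat.card ψ.range = A0.relIndex A := by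
    rw [← Subgroup.index_ker]
    show ψ.ker.index = (A0.subgroupOf A).index
    congr 1
    ext a
    rw [MonoidHom.mem_ker, Subgroup.mem_subgroupOf, hA0]
    constructor
    · intro h
      exact ⟨a.2, (hker ⟨a, hAN a.2⟩).1 (congrArg Subtype.val h)⟩
    · intro h
      exact Subtype.ext ((hker ⟨a, hAN a.2⟩).2 h.2)
  have hfix : (A.subgroupOf U) ≤
      H83.fixedSub φ.range.subtype (ψ.range : Set φ.range) := by
    intro u hu
    rintro _ ⟨a, rfl⟩
    show φ (⟨a, hAN a.2⟩ : N) u = u
    refine Subtype.ext ?_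
    simp only [φ, MonoidHom.coe_comp, Function.comp_apply, Subgroup.coe_subtype,
      MulAut.conjNormal_apply]
    rw [setLike_mul_comm (s := A) a.2 (Subgroup.mem_subgroupOf.1 hu), mul_inv_cancel_right]
  have hfix' : (H83.fixedSub φ.range.subtype (ψ.range : Set φ.range)).index ≤ A.relIndex U :=
    Nat.le_of_dvd (Nat.pos_of_ne_zero Subgroup.FiniteIndex.index_ne_zero)
      (Subgroup.index_dvd_of_le hfix)
  have hUC : U ≤ C := by
    intro u hu
    exact mem_centralizer_iff.2 fun v hv => setLike_mul_comm (s := U) hv hu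
  have hA0U : A.relIndex U = A0.relIndex U := by
    rw [← Subgroup.inf_relIndex_right, ← Subgroup.inf_relIndex_right A0 U, hA0, inf_assoc,
      inf_eq_right.2 hUC]
  have hsup : Nat.card (U ⊔ A0 : Subgroup G) ≤ Nat.card A := by
    refine hmax _ (sup_le ((hUZ.trans inf_le_left).trans hPS) (inf_le_left.trans hAS)) ?_
    exact H34.isElementaryAbelian_sup hUea (H34.isElementaryAbelian_mono hA inf_le_left)
      (Subgroup.le_centralizer_iff.1 inf_le_right)
  have hidx : A0.relIndex U ≤ A0.relIndex A := by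
    refine le_trans (Subgroup.relIndex_le_of_le_right (le_sup_left : U ≤ U ⊔ A0) ?_) ?_
    · exact Subgroup.FiniteIndex.index_ne_zero
    have h1 := Subgroup.relIndex_mul_relIndex (⊥ : Subgroup G) A0 (U ⊔ A0) bot_le le_sup_right
    have h2 := Subgroup.relIndex_mul_relIndex (⊥ : Subgroup G) A0 A bot_le inf_le_left
    simp only [Subgroup.relIndex_bot_left] at h1 h2
    rw [← h1, ← h2] at hsup
    exact Nat.le_of_mul_le_mul_left hsup Nat.card_pos
  rw [hcard] at hbound
  have h1 : A0.relIndex A = 1 := by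
    have hpos : 0 < A0.relIndex A := Nat.pos_of_ne_zero Subgroup.FiniteIndex.index_ne_zero
    have := hbound.trans (hfix'.trans (hA0U.le.trans hidx))
    nlinarith
  intro a ha
  exact hMP ⟨hAN ha, (Subgroup.relIndex_eq_one.1 h1 ha).2⟩

/-- Solvable, `S₄`-free, class two Sylow 2-subgroup `S`: `G = N(J(S)) O(G)`. -/
theorem factorization [Group.IsSolvable G]
    (hS4 : ¬ Cfsg.Involves (Equiv.Perm (Fin 4)) G) (S : Sylow 2 G)
    (hcl : ⁅⁅(S : Subgroup G), (S : Subgroup G)⁆, (S : Subgroup G)⁆ = ⊥) :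
    normalizer ((Cfsg.thompsonSubgroupOf 2 (S : Subgroup G)) : Set G) ⊔ Cfsg.pPrimeCore 2 G = ⊤ := by
  haveI : Fact (Nat.Prime 2) := ⟨Nat.prime_two⟩
  haveI hOn := H19.pPrimeCore_normal 2 G
  set f := QuotientGroup.mk' (Cfsg.pPrimeCore 2 G) with hfdef
  have hfs : Function.Surjective f := QuotientGroup.mk'_surjective _
  have hkc : (Nat.card f.ker).Coprime 2 := by
    rw [QuotientGroup.ker_mk']; exact H19.pPrimeCore_coprime 2
  set S' := S.mapSurjective hfs with hS'def
  have hS' : (S' : Subgroup (G ⧸ Cfsg.pPrimeCore 2 G)) = (S : Subgroup G).map f := rfl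
  have hcl' : ⁅⁅(S' : Subgroup (G ⧸ Cfsg.pPrimeCore 2 G)), (S' : Subgroup (G ⧸ Cfsg.pPrimeCore 2 G))⁆, (S' : Subgroup (G ⧸ Cfsg.pPrimeCore 2 G))⁆ = ⊥ := by
    rw [hS', ← Subgroup.map_commutator, ← Subgroup.map_commutator, hcl, Subgroup.map_bot]
  have hO' := H19.pPrimeCore_quotient_pPrimeCore (G := G) 2
  haveI : Group.IsSolvable (G ⧸ Cfsg.pPrimeCore 2 G) :=
    Group.isSolvable_of_surjective hfs
  have hchar := H19.centralizer_pCore_le (G := G ⧸ Cfsg.pPrimeCore 2 G) (p := 2) hO'
  have hJle : Cfsg.thompsonSubgroupOf 2 (S' : Subgroup (G ⧸ Cfsg.pPrimeCore 2 G)) ≤ Cfsg.pCore 2 _ := by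
    rw [H34.thompsonSubgroupOf_eq]
    exact sSup_le fun B hB => maxElementary_le_pCore hchar
      (fun h => hS4 (H83.involves_of_quotient h)) S' hcl' hB.1 hB.2.1 hB.2.2
  have hJn : normalizer ((Cfsg.thompsonSubgroupOf 2 (S' : Subgroup (G ⧸ Cfsg.pPrimeCore 2 G))) : Set (G ⧸ Cfsg.pPrimeCore 2 G)) = ⊤ := by
    rw [← H34.thompsonSubgroupOf_eq_of_le hJle (H19.pCore_le_sylow S'), eq_top_iff]
    haveI := H19.pCore_normal 2 (G ⧸ Cfsg.pPrimeCore 2 G)
    rw [← Subgroup.normalizer_eq_top (H := Cfsg.pCore 2 (G ⧸ Cfsg.pPrimeCore 2 G))]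
    exact H34.normalizer_le_normalizer_thompson _
  have hinj : Set.InjOn f (S : Subgroup G) := by
    intro x hx y hy h
    have h1 : x⁻¹ * y ∈ (S : Subgroup G) ⊓ f.ker :=
      Subgroup.mem_inf.2 ⟨mul_mem (inv_mem (SetLike.mem_coe.1 hx)) (SetLike.mem_coe.1 hy),
        MonoidHom.mem_ker.2 (by rw [map_mul, map_inv, h, inv_mul_cancel])⟩
    rw [H35.inf_eq_bot_of_coprime S.2 hkc, mem_bot, inv_mul_eq_one] at h1
    exact h1
  have hmap := H35.map_normalizer_eq f hfs hkc
    (P := Cfsg.thompsonSubgroupOf 2 (S : Subgroup G)) (S.2.to_le (H34.thompsonSubgroupOf_le _))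
  rw [H23.map_thompsonSubgroupOf f _ hinj, ← hS', hJn] at hmap
  have := congrArg (Subgroup.comap f) hmap
  rwa [Subgroup.comap_map_eq, QuotientGroup.ker_mk', Subgroup.comap_top] at this

end Cfsg.Agent.H50.ClassTwoThompson
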